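import Cfsg.Agent.Lib.Rec3C.Defs
import Cfsg.Agent.Lib.Rec3.S9Fin

/-! E27B: recognition of `S₃ × S₃ × S₃` (plans/REC3C.md) -/

set_option autoImplicit false
set_option maxRecDepth 100000
set_option maxHeartbeats 400000

namespace CfsgLib.Rec3C

open Subgroup Cfsg CfsgLib.Tech CfsgLib.PComp CfsgLib.W2 CfsgLib.Rec3
open CfsgLib.Rec3B (V81 EQ Q8 KC EE MM Ri TyE zi gi neg)
open CfsgLib.U43 (SL)
open V4

variable {G : Type*} [Group G] [Finite G] {ι : W3 → G} {K : Subgroup G}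

namespace E27

theorem J_T : J0 ≤ T3 := show ∀ a ∈ J0, a ∈ T3 by decide +kernel

theorem T_conj (a : W3) {b : W3} (hb : b ∈ T3) : a * b * a⁻¹ ∈ T3 := by
  have : ∀ s t : W48, bit 0xff t.v = true → bit 0xff (s * t * s⁻¹).v = true := by decide +kernel
  have := this (pr a) (pr b) hb
  rwa [← map_inv, ← map_mul, ← map_mul] at this

/-- `⟨e1, e2, r3⟩` -/
noncomputable def P3 : Subgroup W3 := bsub 0x1ff0000000000000000000000001ff (by decide +kernel)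

noncomputable instance (a : W3) : Decidable (a ∈ P3) :=
  inferInstanceAs (Decidable (bit 0x1ff0000000000000000000000001ff a.v = true))

theorem P_T : P3 ≤ T3 := show ∀ a ∈ P3, a ∈ T3 by decide +kernel

theorem B_P : B0 ≤ P3 := show ∀ a ∈ B0, a ∈ P3 by decide +kernel

theorem card_P : Nat.card P3 = 18 := (TG.card_subgroup _ (· ∈ P3) fun _ => Iff.rfl).trans (by decide +kernel)

omit [Finite G] in
theorem cj_of {Z : Subgroup G} {g p q : G} (h : g * p * g⁻¹ = q) : Cj Z g p q := by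
  rw [Cj, h, mul_inv_cancel]; exact one_mem _

/-- the hypotheses for `K = ⊤` -/
structure Hy (ι : W3 → G) : Prop extends Emb T3 ι where
  hN : normalizer (img ι J0 : Set G) ≤ img ι T3
  hC : ∀ x ∈ J0, x ≠ 1 → Cx (ι x) ≤ img ι T3

omit [Finite G] in
theorem im_tw (s : W3) {X : Subgroup W3} (hX : ∀ a, ∀ b ∈ X, a * b * a⁻¹ ∈ X) :
    img (fun a => ι (s * a * s⁻¹)) X = img ι X :=
  le_antisymm (im_le.2 fun a ha => mem_im_of (hX s a ha)) (im_le.2 fun a ha => by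
    have := mem_im_of (ι := fun a => ι (s * a * s⁻¹)) (hX s⁻¹ a ha)
    simpa [mul_assoc] using this)

namespace Hy

variable (h : Hy ι)
include h

omit [Finite G] in
theorem tw (s : W3) : Hy fun a => ι (s * a * s⁻¹) := by
  refine ⟨⟨fun ha hb => by rw [← h.mul (T_conj s ha) (T_conj s hb), conj_mul], fun ha hb e => by
    simpa using h.inj (T_conj s ha) (T_conj s hb) e⟩, ?_, fun x hx x1 => ?_⟩
  · rw [im_tw s fun a _ => J0_conj a, im_tw s fun a _ => T_conj a]; exact h.hN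
  · rw [im_tw s fun a _ => T_conj a]; exact h.hC _ (J0_conj s hx) (by rwa [Ne, conj_eq_one_iff])

omit [Finite G] in
theorem nine {a : W3} {n : ℕ} (ha : a ∈ T3) (e : ι a ^ 3 ^ n = 1) : a ^ 9 = 1 :=
  pow_nine (n := n) (by rwa [← h.pow ha, h.eq_one_iff (pow_mem ha _)] at e)

theorem uq3 : ∀ x ∈ img ι T3, orderOf x = 3 → Uq (img ι T3) x := by
  refine uq_of_sylow (sylow_of (h.im_pgroup J_T (Jx.S0_pgroup.to_le J0_le_S0)) le_top fun x _ hn ⟨n, e⟩ => ?_) h.hN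
    fun x hx h3 => ?_
  · obtain ⟨a, ha, rfl⟩ := (h.mem_im le_rfl).1 (h.hN hn)
    exact mem_im_of ((by decide +kernel : ∀ a ∈ T3, a ^ 9 = 1 → a ∈ J0) a ha (h.nine ha e))
  · obtain ⟨a, ha, rfl⟩ := (h.mem_im J_T).1 hx
    exact h.hC a ha fun e => by rw [e, h.one, orderOf_one] at h3; omega

theorem uq {a : W3} (ha : a ∈ T3) (h3 : a ^ 3 = 1) (h1 : a ≠ 1) : Uq (img ι T3) (ι a) :=
  h.uq3 _ (mem_im_of ha) (h.ord_three ha h3 h1)

theorem cent_r3 : Cx (ι Rec3.r3) ≤ img ι T3 := by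
  obtain ⟨m1, m2, m3⟩ : e1 ∈ B0 ∧ e2 ∈ B0 ∧ Rec3.r3 ∈ P3 := by decide +kernel
  have hB := B_P.trans P_T
  have hr := P_T m3
  have rr : ι Rec3.r3 * ι Rec3.r3 = 1 := by rw [h.mul_eq hr hr (c := 1) (by decide +kernel), h.one]
  have u1 := h.uq (hB m1) (by decide +kernel) (by decide +kernel)
  have zc : ∀ {g z}, g ∈ Cx (ι Rec3.r3) → z ∈ zpowers (ι Rec3.r3) → g * z = z * g ∧ z * z = 1 := fun hg hz =>
    ⟨comm_of_mem_zpowers' hg hz, by
      obtain ⟨n, rfl⟩ := hz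
      rw [← (Commute.refl _).mul_zpow, rr, one_zpow]⟩
  have hP : img ι P3 ≤ Cx (ι Rec3.r3) := im_le.2 fun a ha => mem_Cx.2 ((h.comm_iff (P_T ha) hr).2
    ((by decide +kernel : ∀ a ∈ P3, a * Rec3.r3 = Rec3.r3 * a) a ha))
  have sq : ∀ {g a}, a ∈ P3 → Cj (zpowers (ι Rec3.r3)) g (ι a) (ι a) → g ∈ Cx (ι (a * a)) := fun {g a} ha e => by
    obtain ⟨k1, k2⟩ := zc (hP (mem_im_of ha)) e
    rw [mem_Cx', h.mul (P_T ha) (P_T ha), ← conj_mul, ← inv_mul_cancel_right (g * ι a * g⁻¹) (ι a)]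
    generalize g * ι a * g⁻¹ * (ι a)⁻¹ = z at k1 k2
    rw [mul_assoc, ← mul_assoc (ι a), k1, mul_assoc, ← mul_assoc, k2, one_mul]
  have cm : ∀ {d a}, d ∈ T3 → a ∈ T3 → ι d ∈ Cx (ι a) → d * a = a * d := fun hd ha e =>
    (h.comm_iff hd ha).1 (mem_Cx.1 e)
  have hS : IsSylowIn 3 (img ι B0) (Cx (ι Rec3.r3)) := by
    refine sylow_of (h.im_pgroup hB (Jx.S0_pgroup.to_le (show ∀ a ∈ B0, a ∈ S0 by decide +kernel)))
      ((im_mono B_P).trans hP) fun x hx hn ⟨n, e⟩ => ?_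
    obtain ⟨d, hd, rfl⟩ := (h.mem_im le_rfl).1 (u1 x (im_mono hB (conj_mem_of_mem_normalizer hn (mem_im_of m1))))
    exact mem_im_of ((by decide +kernel : ∀ d ∈ T3, d * Rec3.r3 = Rec3.r3 * d → d ^ 9 = 1 → d ∈ B0) d hd (cm hd hr hx)
      (h.nine hd e))
  have c3 : ∀ {a}, a ∈ B0 → ι a ^ 3 ∈ zpowers (ι Rec3.r3) := fun {a} ha => by
    rw [← h.pow (hB ha), (by decide +kernel : ∀ a ∈ B0, a ^ 3 = 1) a ha, h.one]; exact one_mem _
  have hn : normalizer (img ι P3 : Set G) ≤ img ι T3 := fun g hg =>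
    u1 g (im_mono P_T (conj_mem_of_mem_normalizer hg (mem_im_of (B_P m1))))
  refine (e9b (Z := zpowers (ι Rec3.r3)) (a := ι e1) (b := ι e2) ⟨zpowers_le.2 (mem_im_of m3), hP,
    fun g hg => mem_normalizer_of_forall fun z hz => by rwa [(zc hg hz).1, mul_inv_cancel_right],
    mem_im_of (B_P m1), mem_im_of (B_P m2), c3 m1, c3 m2,
    cj_of (h.conj_eq (hB m1) (hB m2) (by decide +kernel)), im_le.2 fun a ha => ?_, ?_,
    fun hd => hS.not_dvd (hd.trans (relIndex_dvd_of_le_left _ (im_mono B_P)))⟩ (fun g hg k1 k2 => ?_)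
    (fun x hx hxZ g hg e => ?_) fun g hg hn' => ?_).trans hn
  · exact h.mem_of_sp (gs := [e1, e2, Rec3.r3]) (D := 6) (by decide +kernel) (by
      simp only [List.mem_cons, List.not_mem_nil, or_false, forall_eq_or_imp, forall_eq]
      exact ⟨mem_sup_right (subset_closure (by simp)), mem_sup_right (subset_closure (by simp)),
        mem_sup_left (mem_zpowers _)⟩)
      ((by decide +kernel : ∀ a ∈ P3, bit (TG.sp [e1, e2, Rec3.r3] 6) a.v = true) a ha)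
  · have := card_mul_relIndex' (zpowers_le.2 (mem_im_of (ι := ι) m3))
    rw [h.card_im P_T, card_P, Nat.card_zpowers, h.ord_two hr (by decide +kernel) (by decide +kernel)] at this
    omega
  · have k3 := sq (B_P m1) k1
    have k4 := sq (B_P m2) k2
    obtain ⟨d, hd, rfl⟩ := (h.mem_im le_rfl).1 (h.hC _ (by decide +kernel) (by decide +kernel) k3)
    exact mem_im_of ((by decide +kernel : ∀ d ∈ T3, d * Rec3.r3 = Rec3.r3 * d → d * (e1 * e1) = e1 * e1 * d →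
      d * (e2 * e2) = e2 * e2 * d → d ∈ P3) d hd (cm hd hr hg) (cm hd (by decide +kernel) k3)
        (cm hd (by decide +kernel) k4))
  · obtain ⟨a, ha, rfl⟩ := (h.mem_im P_T).1 hx
    rcases (by decide +kernel : ∀ a ∈ P3, a = 1 ∨ a = Rec3.r3 ∨ a * a ∈ J0 ∧ a * a ≠ 1) a ha with rfl | rfl | k
    · exact absurd (h.one ▸ one_mem _) hxZ
    · exact absurd (mem_zpowers _) hxZ
    obtain ⟨d, hd, rfl⟩ := (h.mem_im le_rfl).1 (h.hC _ k.1 k.2 (sq ha e))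
    refine mem_normalizer_of_forall fun y hy => ?_
    obtain ⟨c, hc, rfl⟩ := (h.mem_im P_T).1 hy
    rw [h.conj hd (P_T hc)]
    exact mem_im_of ((by decide +kernel : ∀ c ∈ P3, ∀ d ∈ T3, d * Rec3.r3 = Rec3.r3 * d → d * c * d⁻¹ ∈ P3) c hc d hd
      (cm hd hr hg))
  · obtain ⟨d, hd, rfl⟩ := (h.mem_im le_rfl).1 (hn hn')
    have k : ∀ {a}, a ∈ B0 → d * a * d⁻¹ = a ∨ d * a * d⁻¹ = a⁻¹ →
        Cj (zpowers (ι Rec3.r3)) (ι d) (ι a) (ι a) ∨ Cj (zpowers (ι Rec3.r3)) (ι d) (ι a) (ι a)⁻¹ := fun ha e =>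
      e.imp (fun e => cj_of (h.conj_eq hd (hB ha) e)) fun e =>
        cj_of ((h.conj_eq hd (hB ha) e).trans (h.inv (hB ha)))
    obtain ⟨k1, k2⟩ := (by decide +kernel : ∀ d ∈ T3, (d * e1 * d⁻¹ = e1 ∨ d * e1 * d⁻¹ = e1⁻¹) ∧
      (d * e2 * d⁻¹ = e2 ∨ d * e2 * d⁻¹ = e2⁻¹)) d hd
    exact ⟨k m1 k1, k m2 k2⟩

theorem mem_of {t g : G} (ht : Cx t ≤ img ι T3) {c d : W3} (hc : c ∈ T3) (hd : d ∈ T3) (h3 : d ^ 3 = 1) (h1 : d ≠ 1)
    (e : d * c = c * d) (hg : g * t * g⁻¹ = ι c) : g ∈ img ι T3 := by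
  refine inv_mem_iff.1 (h.uq hd h3 h1 _ (ht (mem_Cx.2 ?_)))
  rw [show t = g⁻¹ * ι c * g⁻¹⁻¹ by rw [← hg]; group, conj_mul, conj_mul, (h.comm_iff hd hc).2 e]

theorem uq_or {s : W3} (hs : s ∈ T3) (ss : s * s = 1 ∧ s ≠ 1) (ht : Cx (ι s) ≤ img ι T3) :
    Uq (img ι T3) (ι s) ∨ IsConj (ι s) (ι i0) := by
  refine or_iff_not_imp_right.2 fun hn g hg => ?_
  obtain ⟨c, hc, e⟩ := (h.mem_im le_rfl).1 hg
  have cc : c * c = 1 := by
    rw [← h.eq_one_iff (mul_mem hc hc), h.mul hc hc, e, conj_mul, ← h.mul hs hs, ss.1, h.one, mul_one, mul_inv_cancel]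
  rcases (by decide +kernel : ∀ c ∈ T3, c * c = 1 → (∃ d ∈ [e1, e2, e3], d * c = c * d) ∨
    ∃ v : V27, vec v * c * (vec v)⁻¹ = i0) c hc cc with ⟨d, hd, k⟩ | ⟨v, k⟩
  · obtain ⟨k1, k2, k3⟩ := (by decide +kernel : ∀ d ∈ [e1, e2, e3], d ∈ T3 ∧ d ^ 3 = 1 ∧ d ≠ 1) d hd
    exact h.mem_of ht hc k1 k2 k3 k e.symm
  · exact absurd ((isConj_iff.2 ⟨g, e.symm⟩).trans (h.isConj (J_T (vec_mem v)) hc k)) hn

theorem top_of {s x : W3} (hs : s ∈ T3) (ss : s * s = 1 ∧ s ≠ 1) (hu : Uq (img ι T3) (ι s))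
    (k1 : ∀ d ∈ T3, d * s * d⁻¹ * s = s * (d * s * d⁻¹) → d * s * d⁻¹ = s) (hx : x ∈ T3) (x3 : x ^ 3 = 1)
    (k2 : ∀ d ∈ T3, x * (d * s * d⁻¹) ≠ d * s * d⁻¹ * x) : ⊤ ≤ img ι T3 := by
  refine uf_in (h.ord_two hs ss.1 ss.2) (mem_top _) (mem_im_of hs) (fun g _ => hu g) (fun m _ hm h1 h2 => ?_)
    Nat.prime_three (.inr h.uq3) (mem_top (ι x)) (mem_im_of hx) (k := 1)
    (by rw [pow_one, ← h.pow hx, x3, h.one]) fun m _ hm h1 => ?_
  all_goals obtain ⟨d, hd, rfl⟩ := (h.mem_im le_rfl).1 hm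
  · rw [h.conj hd hs] at h1 h2
    exact absurd (congrArg ι (k1 d hd ((h.comm_iff (T_conj d hs) hs).1 (mem_Cx.1 h2)))) h1
  · rw [h.conj hd hs] at h1
    exact k2 d hd ((h.comm_iff hx (T_conj d hs)).1 (mem_Cx.1 h1))

theorem top : ⊤ ≤ img ι T3 := by
  have c1 := (h.tw σ0).cent_r3
  rw [im_tw σ0 fun a _ => T_conj a, show σ0 * Rec3.r3 * σ0⁻¹ = Rec3.r1 by decide +kernel] at c1
  rcases h.uq_or (by decide +kernel) (by decide +kernel) c1 with u1 | u1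
  · exact h.top_of (x := e1) (by decide +kernel) (by decide +kernel) u1 (by decide +kernel) (by decide +kernel)
      (by decide +kernel) (by decide +kernel)
  rcases h.uq_or (by decide +kernel) (by decide +kernel) h.cent_r3 with u3 | u3
  · exact h.top_of (x := e3) (by decide +kernel) (by decide +kernel) u3 (by decide +kernel) (by decide +kernel)
      (by decide +kernel) (by decide +kernel)
  obtain ⟨g, hg⟩ := isConj_iff.1 (u1.trans u3.symm)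
  obtain ⟨d, hd, rfl⟩ := (h.mem_im le_rfl).1 (h.mem_of c1 (d := e1) (by decide +kernel) (by decide +kernel)
    (by decide +kernel) (by decide +kernel) (by decide +kernel) hg)
  rw [h.conj hd (by decide +kernel), h.eq_iff (T_conj d (by decide +kernel)) (by decide +kernel)] at hg
  exact absurd hg ((by decide +kernel : ∀ d ∈ T3, d * Rec3.r1 * d⁻¹ ≠ Rec3.r3) d hd)

end Hy

/-- `S₃ = ⟨e, r⟩` -/
noncomputable def s3 (e r : W3) (p : Equiv.Perm (Fin 3)) : W3 := e ^ (p 0).val * if p 1 = p 0 + 1 then 1 else r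

end E27

open E27

theorem e27b (h : Emb T3 ι) (hK : img ι T3 ≤ K) (hN : K ⊓ normalizer (img ι J0 : Set G) ≤ img ι T3)
    (hC : ∀ x ∈ J0, x ≠ 1 → K ⊓ Cx (ι x) ≤ normalizer (img ι J0 : Set G)) :
    K ≤ normalizer (img ι J0 : Set G) := by
  obtain ⟨κ, hκ⟩ : ∃ κ : W3 → K, ∀ a ∈ T3, (κ a : G) = ι a :=
    ⟨fun a => if ha : a ∈ T3 then ⟨ι a, hK (mem_im_of ha)⟩ else 1, fun a ha => by simp only [dif_pos ha]⟩
  have k : Emb T3 κ := ⟨fun ha hb => Subtype.ext (by rw [coe_mul, hκ _ ha, hκ _ hb, hκ _ (mul_mem ha hb), h.mul ha hb]),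
    fun ha hb e => h.inj ha hb (by rw [← hκ _ ha, ← hκ _ hb, e])⟩
  have hi : ∀ {X}, X ≤ T3 → img κ X = (img ι X).subgroupOf K := fun hX => Subgroup.ext fun g => by
    rw [mem_subgroupOf, k.mem_im hX, h.mem_im hX]
    exact exists_congr fun a => and_congr_right fun ha => by rw [Subtype.ext_iff, hκ a (hX ha)]
  have : ⊤ ≤ img κ T3 := Hy.top ⟨k, fun g hg => by
      rw [hi J_T, ← subgroupOf_normalizer_eq ((im_mono J_T).trans hK)] at hg
      exact hi le_rfl ▸ hN ⟨g.2, hg⟩, fun x hx x1 g hg =>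
    hi le_rfl ▸ hN ⟨g.2, hC x hx x1 ⟨g.2, mem_Cx.2 (hκ x (J_T hx) ▸ congrArg Subtype.val (mem_Cx.1 hg))⟩⟩⟩
  intro g hg
  obtain ⟨a, ha, rfl⟩ := (h.mem_im le_rfl).1 (mem_subgroupOf.1 (hi le_rfl ▸ this (mem_top (⟨g, hg⟩ : K))))
  refine mem_normalizer_of_forall fun y hy => ?_
  obtain ⟨c, hc, rfl⟩ := (h.mem_im J_T).1 hy
  rw [h.conj ha (J_T hc)]
  exact mem_im_of (J0_conj a hc)

theorem T3_equiv : Nonempty (T3 ≃* Equiv.Perm (Fin 3) × Equiv.Perm (Fin 3) × Equiv.Perm (Fin 3)) := by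
  let f1 : Equiv.Perm (Fin 3) →* W3 := MonoidHom.mk' (s3 e1 Rec3.r1) (by decide +kernel)
  let f2 : Equiv.Perm (Fin 3) →* W3 := MonoidHom.mk' (s3 e2 Rec3.r2) (by decide +kernel)
  let f3 : Equiv.Perm (Fin 3) →* W3 := MonoidHom.mk' (s3 e3 Rec3.r3) (by decide +kernel)
  let φ := f1.noncommCoprod (f2.noncommCoprod f3
    (show ∀ p q, s3 e2 Rec3.r2 p * s3 e3 Rec3.r3 q = s3 e3 Rec3.r3 q * s3 e2 Rec3.r2 p by decide +kernel)) fun p q =>
      (by decide +kernel : ∀ p q u, s3 e1 Rec3.r1 p * (s3 e2 Rec3.r2 q * s3 e3 Rec3.r3 u) =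
        s3 e2 Rec3.r2 q * s3 e3 Rec3.r3 u * s3 e1 Rec3.r1 p) p q.1 q.2
  have k : ∀ p q u, s3 e1 Rec3.r1 p * (s3 e2 Rec3.r2 q * s3 e3 Rec3.r3 u) ∈ T3 ∧
      (s3 e1 Rec3.r1 p * (s3 e2 Rec3.r2 q * s3 e3 Rec3.r3 u) = 1 → p = 1 ∧ q = 1 ∧ u = 1) := by decide +kernel
  have hi : Function.Injective φ := (injective_iff_map_eq_one φ).2 fun p e =>
    let ⟨a, b, c⟩ := (k p.1 p.2.1 p.2.2).2 e
    Prod.ext a (Prod.ext b c)
  have hr : T3 = φ.range := (eq_of_le_of_card_ge (by rintro _ ⟨p, rfl⟩; exact (k p.1 p.2.1 p.2.2).1) (by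
    rw [← Nat.card_congr (MonoidHom.ofInjective hi).toEquiv, TG.card_subgroup T3 (· ∈ T3) fun _ => Iff.rfl,
      show TG.cnt (· ∈ T3) = 216 by decide +kernel]
    simp [Fintype.card_perm, Nat.factorial])).symm
  exact ⟨(MulEquiv.subgroupCongr hr).trans (MonoidHom.ofInjective hi).symm⟩

/-- nontrivial normal subgroups of `T3` -/
theorem T3_normal {N : Subgroup W3} (hN : T3 ≤ normalizer (N : Set W3)) {a : W3} (ha : a ∈ T3) (haN : a ∈ N)
    (h1 : a ≠ 1) : e1 ∈ N ∨ e2 ∈ N ∨ e3 ∈ N := by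
  obtain ⟨b, hb, ht⟩ := (by decide +kernel : ∀ a ∈ T3, a ≠ 1 → ∃ b ∈ [e1, e2, e3, Rec3.r1, Rec3.r2, Rec3.r3],
    TyE (b * a * b⁻¹ * a⁻¹)) a ha h1
  have := mul_mem (conj_mem_of_mem_normalizer (hN ((by decide +kernel :
    ∀ b ∈ [e1, e2, e3, Rec3.r1, Rec3.r2, Rec3.r3], b ∈ T3) b hb)) haN) (inv_mem haN)
  rcases ht with e | e | e | e | e | e <;> rw [e] at this
  exacts [.inl this, .inr (.inl this), .inr (.inr this), .inl (inv_mem_iff.1 this), .inr (.inl (inv_mem_iff.1 this)),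
    .inr (.inr (inv_mem_iff.1 this))]

end CfsgLib.Rec3C
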