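import Cfsg.Agent.Lib.Rec3C.O8G0
import Cfsg.Agent.Lib.Rec3C.E27b
import Cfsg.Agent.Lib.Rec3.S9End
import Cfsg.Agent.Lib.Rec3.S9Cox

/-! O8CE: `C(x4)` (plans/REC3C.md) -/

set_option autoImplicit false
set_option maxRecDepth 100000
set_option maxHeartbeats 400000
set_option Elab.async false

namespace CfsgLib.Rec3C

open Subgroup Cfsg CfsgLib.Tech CfsgLib.PComp CfsgLib.W2 CfsgLib.Rec3
open CfsgLib.Rec3B (V81 EQ Q8 KC EE MM Ri TyE zi gi neg)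
open CfsgLib.U43 (SL)
open V4

variable {G : Type*} [Group G] [Finite G] {Γ : Subgroup GO} {ι : N4 → G}

theorem O4.J_le_Cx (h : O4 Γ ι) (v : V81) : JG ι ≤ Cx (ι (nv v)) := fun x hx => mem_Cx.2 (h.J_comm x hx _ (mem_gim_of (nv_JV v)))

theorem O4.cent_mul (h : O4 Γ ι) {g : G} {u v : V81} (hu : g ∈ Cx (ι (nv u))) (hv : g ∈ Cx (ι (nv v))) : g ∈ Cx (ι (nv (u * v))) := by
  rw [map_mul, h.mul (nv_mem _ _) (nv_mem _ _)]
  exact mem_Cx.2 ((show Commute g _ from mem_Cx.1 hu).mul_right (mem_Cx.1 hv))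

theorem O4.move (h : O4 Γ ι) {K : Subgroup G} (hK : K.Normal) {w : GO} (hw : w ∈ Γ) {u v : V81}
    (e : K ⊓ (Cx (ι (nv (act w u))) ⊓ Cx (ι (nv (act w v)))) ≤ NJG ι) : K ⊓ (Cx (ι (nv u)) ⊓ Cx (ι (nv v))) ≤ NJG ι := fun g hg => by
  have hn := h.mem_norm (nl_mem hw)
  have c : ∀ u, g ∈ Cx (ι (nv u)) → ι (nl w) * g * (ι (nl w))⁻¹ ∈ Cx (ι (nv (act w u))) := fun u hu => by
    rw [← show _ = ι (nv (act w u)) from h.conj_ev (nl_mem hw) u]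
    exact mem_Cx.2 (by rw [conj_mul, conj_mul, mem_Cx.1 hu])
  simpa [mul_assoc] using mul_mem (mul_mem (inv_mem hn) (e ⟨hK.conj_mem _ hg.1 _, c u hg.2.1, c v hg.2.2⟩)) hn

theorem O8.cy' (h : O8 Γ ι) {u : V81} (h0 : qf u = 0) (h1 : u ≠ 1) : Cx (ι (nv u)) ⊓ Cx (ι (nv x4)) ≤ NJG ι := by
  by_cases p : Perp u x4
  swap
  · exact h.toO4.cz_le h0 p
  obtain ⟨w, -, w1, w2, w3⟩ := (by decide +kernel : ∀ u, qf u = 0 → u ≠ 1 → Perp u x4 →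
    ∃ w ∈ ([1, V4.r1, V4.r2, V4.r3, V4.r1 * V4.r2, V4.r1 * V4.r3, V4.r2 * V4.r3, V4.r1 * V4.r2 * V4.r3] : List GO), w ∈ WP43 ∧ act w u = zz ∧ act w x4 = x4) u h0 h1 p
  exact fun g hg => h.toO4.move (K := ⊤) inferInstance (h.P_le w1) (by rw [w2, w3]; exact inf_le_right.trans h.cy) ⟨mem_top g, hg⟩

theorem J0_A3 : J0 ≤ A3 Γ := fun a ha => mem_A3.2 ((by decide +kernel : ∀ a ∈ J0, e48 (pr a) = 1) a ha ▸ one_mem _)

theorem O4.norm3 (h : O4 Γ ι) {g : G} (hg : g ∈ NJG ι) (h4 : g ∈ Cx (ι (nv x4))) :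
    g ∈ normalizer (img (fun a => ι (emb3 a)) J0 : Set G) := by
  obtain ⟨a, ha, rfl⟩ := h.exists_eq hg
  obtain ⟨s, hs⟩ := exists_e48 _ ((h.cent_iff ha _).1 h4)
  refine mem_normalizer_of_forall fun x hx => ?_
  obtain ⟨b, hb, rfl⟩ := (h.emb.mem_im J0_A3).1 hx
  have k : ∀ v, emb3 (vec v) = nv (e27 v) := by decide +kernel
  rw [eq_vec b hb, k, h.conj_ev ha, ← hs, e48_act, ← k]
  exact mem_im_of (ι := fun a => ι (emb3 a)) (vec_mem _)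

namespace O8

variable (h : O8 WP43 ι) {G0 : Subgroup G} (k : G0D ι G0)
include h k

theorem syl_J : IsSylowIn 3 (JG ι) (G0 ⊓ Cx (ι (nv x4))) :=
  h.toO4.sylow_of_model le_rfl (JV_le _) (le_inf (gim_le.2 fun a ha => eq_nv ha ▸ k.nv_mem _) (h.toO4.J_le_Cx _))
    fun a ha m e _ => (by decide +kernel : ∀ g : GO, act g x4 = x4 → g ∈ WP4 → g ^ 3 = 1 → g = 1) _
      ((h.toO4.cent_iff ha _).1 m.2) ((k.mem a ha).1 m.1) e

theorem ce34 : G0 ⊓ (Cx (ι (nv x3)) ⊓ Cx (ι (nv x4))) ≤ NJG ι := by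
  have : Fact (Nat.Prime 3) := ⟨Nat.prime_three⟩
  have o := h.toO4
  have hB : B0 ≤ A3 WP43 := fun a ha => J0_A3 ((by decide +kernel : ∀ a ∈ B0, a ∈ J0) a ha)
  have hS := (h.syl_J k).of_le (K := G0 ⊓ (Cx (ι (nv x3)) ⊓ Cx (ι (nv x4))))
    (le_inf ((h.syl_J k).le.trans inf_le_left) (le_inf (o.J_le_Cx _) (o.J_le_Cx _))) (inf_le_inf_left _ inf_le_right)
  set P := img (fun a => ι (emb3 a)) B0 with hP
  have mP : ∀ {x}, x ∈ P ↔ ∃ v : V81, v.v < 9 ∧ ι (nv v) = x := by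
    intro x
    rw [o.emb.mem_im hB]
    constructor
    · rintro ⟨a, ha, rfl⟩
      obtain ⟨v, hv, e⟩ := (by decide +kernel : ∀ a ∈ B0, ∃ v : V81, v.v < 9 ∧ nv v = emb3 a) a ha
      exact ⟨v, hv, congrArg ι e⟩
    · rintro ⟨v, hv, rfl⟩
      obtain ⟨a, ha, e⟩ := (by decide +kernel : ∀ v : V81, v.v < 9 → ∃ a ∈ B0, emb3 a = nv v) v hv
      exact ⟨a, ha, congrArg ι e⟩
  have PJ : P ≤ JG ι := fun x hx => by obtain ⟨v, -, rfl⟩ := mP.1 hx; exact mem_gim_of (nv_JV v)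
  have st : ∀ g ∈ G0 ⊓ (Cx (ι (nv x3)) ⊓ Cx (ι (nv x4))), g ∈ NJG ι → ∃ a ∈ NG WP43, ι a = g ∧ (∀ v, (act a.w v * v⁻¹).v < 9) ∧
      (∀ v : V81, v.v < 9 → (act a.w v).v < 9) ∧ (act a.w x1 = x1 ∨ act a.w x1 = x1⁻¹) ∧ (act a.w x2 = x2 ∨ act a.w x2 = x2⁻¹) :=
    fun g hg hn => by
      obtain ⟨a, ha, rfl⟩ := o.exists_eq hn
      exact ⟨a, ha, rfl, (by decide +kernel : ∀ g : GO, act g x4 = x4 → act g x3 = x3 → g ∈ WP4 → (∀ v, (act g v * v⁻¹).v < 9) ∧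
        (∀ v : V81, v.v < 9 → (act g v).v < 9) ∧ (act g x1 = x1 ∨ act g x1 = x1⁻¹) ∧ (act g x2 = x2 ∨ act g x2 = x2⁻¹)) _
        ((o.cent_iff ha _).1 hg.2.2) ((o.cent_iff ha _).1 hg.2.1) ((k.mem a ha).1 hg.1)⟩
  obtain ⟨K, k1, -, k2, k3, k4⟩ := exists_transfer hS o.J_comm PJ fun n hn hn' x hx => by
    obtain ⟨a, ha, rfl, e, -⟩ := st n hn hn'
    obtain ⟨v, rfl⟩ := o.mem_J.1 hx
    rw [o.conj_ev ha, ← h.inv (nv_mem _ _), ← h.mul (nv_mem _ _) (inv_mem (nv_mem _ _)), ← map_inv, ← map_mul]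
    exact mP.2 ⟨_, e v, rfl⟩
  have m1 : ι (nv x1) ∈ P := mP.2 ⟨_, by decide +kernel, rfl⟩
  have m2 : ι (nv x2) ∈ P := mP.2 ⟨_, by decide +kernel, rfl⟩
  have inv2 : ∀ {a : N4}, a.w ∈ WP4 → act a.w x3 = x3 → act a.w x4 = x4 → a * a = 1 → a ≠ 1 → ι a ∈ K := fun a1 a3 a4 a2 n =>
    k4 _ ⟨(k.mem _ (WP4_le a1)).2 a1, (o.cent_iff (WP4_le a1) _).2 a3, (o.cent_iff (WP4_le a1) _).2 a4⟩
      (by rw [h.ord_two (WP4_le a1) a2 n]; decide)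
  have mK : ∀ {v : V81} {w : GO}, (w ∈ WP4 ∧ act w x3 = x3 ∧ act w x4 = x4 ∧ w * w = 1 ∧ w ≠ 1 ∧ v * act w v = 1) → ι (nv v) ∈ K :=
    fun {v w} ⟨a1, a3, a4, a2, n, e⟩ => by
      have b1 := inv2 (a := ⟨v, w⟩) a1 a3 a4 (N4.ext e a2) fun c => n (congrArg N4.w c)
      have b2 := inv2 (a := nl w) a1 a3 a4 (by rw [← map_mul, a2, map_one]) fun c => n (congrArg N4.w c)
      rwa [mk_eq, h.mul (nv_mem _ _) (nl_mem (WP4_le a1)), mul_mem_cancel_right b2] at b1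
  have gen : P ≤ closure {ι (nv x1), ι (nv x2)} := fun x hx => by
    obtain ⟨v, hv, rfl⟩ := mP.1 hx
    obtain ⟨i, -, j, -, rfl⟩ := (by decide +kernel : ∀ v : V81, v.v < 9 → ∃ i < 3, ∃ j < 3, v = x1 ^ i * x2 ^ j) v hv
    rw [map_mul, map_pow, map_pow, h.mul (pow_mem (nv_mem _ _) _) (pow_mem (nv_mem _ _) _), h.pow (nv_mem _ _), h.pow (nv_mem _ _)]
    exact mul_mem (pow_mem (subset_closure (by simp)) _) (pow_mem (subset_closure (by simp)) _)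
  have PK : P ≤ K := gen.trans ((closure_le K).2 (by
    rintro _ (rfl | rfl)
    exacts [mK (w := r1) (by decide +kernel), mK (w := r2) (by decide +kernel)]))
  have toJ : ∀ g ∈ K, g ∈ normalizer (P : Set G) → g ∈ NJG ι := fun g hg hn => mem_normalizer_of_forall fun x hx => by
    obtain ⟨v, rfl⟩ := o.mem_J.1 hx
    obtain ⟨u, hu, i, -, j, -, rfl⟩ := (by decide +kernel : ∀ v : V81, ∃ u : V81, u.v < 9 ∧ ∃ i < 3, ∃ j < 3, v = u * x3 ^ i * x4 ^ j) v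
    rw [map_mul, map_mul, map_pow, map_pow, h.mul (mul_mem (nv_mem _ _) (pow_mem (nv_mem _ _) _)) (pow_mem (nv_mem _ _) _),
      h.mul (nv_mem _ _) (pow_mem (nv_mem _ _) _), h.pow (nv_mem _ _), h.pow (nv_mem _ _), ← conj_mul, ← conj_mul, ← conj_pow,
      ← conj_pow, mem_Cx'.1 (k1 hg).2.1, mem_Cx'.1 (k1 hg).2.2]
    exact mul_mem (mul_mem (PJ (conj_mem_of_mem_normalizer hn (mP.2 ⟨u, hu, rfl⟩))) (pow_mem (mem_gim_of (nv_JV _)) _))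
      (pow_mem (mem_gim_of (nv_JV _)) _)
  have c3 : ∀ v, ι (nv v) ^ 3 = 1 := fun v => by
    rw [← h.pow (nv_mem _ _), ← map_pow, pow_succ, pow_two, Rec3B.W4.V_cube, map_one, h.one]
  have pP := hS.pgroup.to_le PJ
  have E : E9 K ⊥ P (ι (nv x1)) (ι (nv x2)) := ⟨bot_le, PK, by rw [normalizer_eq_top]; exact le_top, m1, m2, c3 _, c3 _,
    cj_bot_iff.2 (mem_Cx'.1 (o.J_le_Cx _ (PJ m1))), gen.trans le_sup_right, by
      rw [relIndex_bot_left, o.emb.card_im hB, TG.card_subgroup _ _ fun _ => Iff.rfl]; decide +kernel,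
    (sylow_of pP PK fun x hx hn ⟨n, e⟩ => k2 ⟨hx, by
      have := hS.eq_of_le (Q := JG ι ⊔ zpowers x) (IsPGroup.to_sup_of_normal_left' hS.pgroup (isPGroup_zpowers_of_pow e)
        (zpowers_le.2 (toJ x hx hn))) le_sup_left (sup_le hS.le (zpowers_le.2 (k1 hx)))
      exact this ▸ mem_sup_right (mem_zpowers x)⟩).not_dvd⟩
  have fin := e9b E (fun g hg a b => k2 ⟨hg, o.cent_J fun v => ?_⟩) (fun x hx x1 g hg c => ?_) fun g hg hn => ?_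
  · exact k3.trans (sup_le (fun g hg => toJ g hg (fin hg)) le_normalizer)
  · rw [cj_bot_iff, ← mem_Cx'] at a b
    refine TG.ind_of_genB genV (P := fun v => g ∈ Cx (ι (nv v))) (by rw [map_one, h.one]; exact mem_Cx.2 (by simp))
      (fun u hu w hw => o.cent_mul hu ?_) v
    simp only [List.mem_cons, List.not_mem_nil, or_false] at hw
    rcases hw with rfl | rfl | rfl | rfl
    exacts [a, b, (k1 hg).2.1, (k1 hg).2.2]
  · obtain ⟨v, hv, rfl⟩ := mP.1 hx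
    rw [cj_bot_iff, ← mem_Cx'] at c
    have c' := o.cent_mul c (k1 hg).2.1
    have hn : g ∈ NJG ι := by
      rcases (by decide +kernel : ∀ v : V81, v.v < 9 → v = 1 ∨ (qf (v * x3) = 0 ∧ v * x3 ≠ 1) ∨
        (qf (v * x3 * x4) = 0 ∧ v * x3 * x4 ≠ 1)) v hv with rfl | e | e
      exacts [absurd (by rw [map_one, h.one]; exact one_mem _) x1, h.cy' e.1 e.2 ⟨c', (k1 hg).2.2⟩,
        h.cy' e.1 e.2 ⟨o.cent_mul c' (k1 hg).2.2, (k1 hg).2.2⟩]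
    obtain ⟨a, ha, rfl, -, e, -⟩ := st g (k1 hg) hn
    refine mem_normalizer_of_forall fun y hy => ?_
    obtain ⟨u, hu, rfl⟩ := mP.1 hy
    exact mP.2 ⟨_, e u hu, (o.conj_ev ha u).symm⟩
  · obtain ⟨a, ha, rfl, -, -, e1, e2⟩ := st g (k1 hg) (toJ g hg hn)
    simp only [cj_bot_iff, o.conj_ev ha, ← h.inv (nv_mem _ _), ← map_inv]
    exact ⟨e1.imp (fun e => by rw [e]) fun e => by rw [e], e2.imp (fun e => by rw [e]) fun e => by rw [e]⟩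

theorem ce0 : G0 ⊓ Cx (ι (nv x4)) ≤ NJG ι := by
  have : Fact (Nat.Prime 3) := ⟨Nat.prime_three⟩
  have o := h.toO4
  have hS := h.syl_J k
  have hT : T3 ≤ A3 WP43 := A3_vals.1 ▸ show ∀ a ∈ T3, a ∈ A24 by decide +kernel
  have hJ : J0 ≤ T3 := show ∀ a ∈ J0, a ∈ T3 by decide +kernel
  have kv : ∀ v, emb3 (vec v) = nv (e27 v) := by decide +kernel
  have PJ : img (fun a => ι (emb3 a)) J0 ≤ JG ι := im_le.2 fun a ha => by rw [eq_vec a ha, kv]; exact mem_gim_of (nv_JV _)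
  obtain ⟨K, k1, -, k2, k3, k4⟩ := exists_transfer hS o.J_comm PJ fun n hn hn' x hx => by
    obtain ⟨a, ha, rfl⟩ := o.exists_eq hn'
    obtain ⟨s, hs⟩ := exists_e48 _ ((o.cent_iff ha _).1 hn.2)
    obtain ⟨v, rfl⟩ := o.mem_J.1 hx
    obtain ⟨u, e⟩ := (by decide +kernel : ∀ s v, ∃ u, act (e48 s) v * v⁻¹ = e27 u) s v
    rw [o.conj_ev ha, ← h.inv (nv_mem _ _), ← h.mul (nv_mem _ _) (inv_mem (nv_mem _ _)), ← map_inv, ← map_mul, ← hs, e, ← kv]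
    exact mem_im_of (ι := fun a => ι (emb3 a)) (vec_mem _)
  have TK : img (fun a => ι (emb3 a)) T3 ≤ K := im_le.2 fun a ha => by
    have sp : CosetEnum.force (TG.sp [Rec3.r1, Rec3.r2, Rec3.r3, e1 * Rec3.r1, e2 * Rec3.r2, e3 * Rec3.r3] 9)
      (fun S => decide (∀ a ∈ T3, bit S a.v = true)) = true := by decide +kernel
    rw [CosetEnum.force_eq, decide_eq_true_eq] at sp
    have l : ∀ g ∈ [Rec3.r1, Rec3.r2, Rec3.r3, e1 * Rec3.r1, e2 * Rec3.r2, e3 * Rec3.r3], g ∈ T3 ∧ g * g = 1 ∧ g ≠ 1 ∧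
      (emb3 g).w ∈ WP4 ∧ act (emb3 g).w x4 = x4 := by decide +kernel
    exact o.emb.mem_of_sp (fun g hg => hT (l g hg).1) (fun g hg => k4 _ ⟨(k.mem _ (hT (l g hg).1)).2 (l g hg).2.2.2.1,
      (o.cent_iff (hT (l g hg).1) _).2 (l g hg).2.2.2.2⟩ (by
        rw [o.emb.ord_two (hT (l g hg).1) (l g hg).2.1 (l g hg).2.2.1]; decide)) (sp a ha)
  have fin := e27b (o.emb.mono hT) TK (fun g hg => ?_) fun x hx x1 g hg => o.norm3 ?_ (k1 hg.1).2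
  · exact k3.trans (sup_le (fin.trans o.norm_J3) le_normalizer)
  · obtain ⟨a, ha, rfl⟩ := o.exists_eq (o.norm_J3 hg.2)
    obtain ⟨s, hs⟩ := exists_e48 _ ((o.cent_iff ha _).1 (k1 hg.1).2)
    have e := (by decide +kernel : ∀ s, e48 s ∈ WP4 → lin s ∈ T3 ∧ emb3 (lin s) = nl (e48 s)) s (hs ▸ (k.mem a ha).1 (k1 hg.1).1)
    have m : ι (nl a.w) ∈ img (fun a => ι (emb3 a)) T3 := by
      rw [← hs, ← e.2]; exact mem_im_of (ι := fun a => ι (emb3 a)) e.1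
    have := hg.1
    rw [← nv_nl a, h.mul (nv_mem _ _) (nl_mem (g := a.w) ha)] at this ⊢
    exact mul_mem (im_mono hJ (k2 ⟨(mul_mem_cancel_right (TK m)).1 this, mem_gim_of (nv_JV _)⟩)) m
  · have c := hg.2
    rw [(congrArg emb3 (eq_vec x hx)).trans (kv (vp x))] at c
    rcases (by decide +kernel : ∀ x ∈ J0, x ≠ 1 → ∀ v, v = e27 (vp x) → (qf v = 0 ∧ v ≠ 1) ∨ (qf (v * x4) = 0 ∧ v * x4 ≠ 1) ∨
      ∃ w ∈ ([1, al, al⁻¹, V4.r3, V4.r3 * al, V4.r3 * al⁻¹] : List GO), w ∈ WP43 ∧ act w v = x3 ∧ act w x4 = x4) x hx x1 _ rfl with e | e | ⟨w, -, w1, w2, w3⟩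
    exacts [h.cy' e.1 e.2 ⟨c, (k1 hg.1).2⟩, h.cy' e.1 e.2 ⟨o.cent_mul c (k1 hg.1).2, (k1 hg.1).2⟩,
      o.move k.nrm w1 (by rw [w2, w3]; exact h.ce34 k) ⟨(k1 hg.1).1, c, (k1 hg.1).2⟩]

end O8

theorem four_three {L : Type*} [Group L] (e : L ≃* Equiv.Perm (Fin 9)) {a b c d : L} (ha : orderOf a = 3) (hb : orderOf b = 3)
    (hc : orderOf c = 3) (hd : orderOf d = 3) :
    IsConj a b ∨ IsConj a c ∨ IsConj a d ∨ IsConj b c ∨ IsConj b d ∨ IsConj c d := by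
  have k : ∀ {a : L}, orderOf a = 3 → ∃ n ≤ 2, (e a).cycleType = Multiset.replicate (n + 1) 3 := fun {a} ha => by
    have o := (e.orderOf_eq a).trans ha
    obtain ⟨n, hn⟩ := Equiv.Perm.cycleType_prime_order (σ := e a) (o ▸ Nat.prime_three)
    have := (e a).sum_cycleType_le
    rw [o] at hn
    rw [hn, Multiset.sum_replicate, Fintype.card_fin, smul_eq_mul] at this
    exact ⟨n, by omega, hn⟩
  have l : ∀ {a b : L} {n m}, (e a).cycleType = Multiset.replicate (n + 1) 3 → (e b).cycleType = Multiset.replicate (m + 1) 3 →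
      n = m → IsConj a b := fun p q r => by
    have := e.symm.toMonoidHom.map_isConj (Equiv.Perm.isConj_of_cycleType_eq (p.trans (r ▸ q.symm)))
    rwa [MulEquiv.coe_toMonoidHom, e.symm_apply_apply, e.symm_apply_apply] at this
  obtain ⟨n1, a1, a2⟩ := k ha
  obtain ⟨n2, b1, b2⟩ := k hb
  obtain ⟨n3, c1, c2⟩ := k hc
  obtain ⟨n4, d1, d2⟩ := k hd
  by_contra! n
  have := mt (l a2 b2) n.1
  have := mt (l a2 c2) n.2.1
  have := mt (l a2 d2) n.2.2.1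
  have := mt (l b2 c2) n.2.2.2.1
  have := mt (l b2 d2) n.2.2.2.2.1
  have := mt (l c2 d2) n.2.2.2.2.2
  omega

theorem O8.ce2 (h : O8 WF4 ι) : Cx (ι (nv x4)) ≤ NJG ι := by
  have o := h.toO4
  have ht : t12 ∈ WF4 := by decide +kernel
  obtain ⟨κ, d⟩ := o.exists_LD ht
  have js : JS B3 κ := A3_vals.2.2.1 ▸ d.toJS
  have v : ∀ a, (κ a : G) = ι (emb3 a) := fun a => d.val a (A3_vals.2.2.1 ▸ mem_B3 a)
  have tr : ∀ g : Lx (ι (nv x4)), g ∈ normalizer (img κ J0 : Set (Lx (ι (nv x4)))) ↔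
      (g : G) ∈ normalizer (img (fun a => ι (emb3 a)) J0 : Set G) := fun g => by
    constructor <;> refine fun hg => mem_normalizer_of_forall fun x hx => ?_
    · obtain ⟨a, ha, rfl⟩ := (o.emb.mem_im J0_A3).1 hx
      obtain ⟨b, hb, e⟩ := (js.mem_im js.J_le).1 (conj_mem_of_mem_normalizer hg (mem_im_of ha))
      exact (o.emb.mem_im J0_A3).2 ⟨b, hb, by rw [← v, ← v, e]; rfl⟩
    · obtain ⟨a, ha, rfl⟩ := (js.mem_im js.J_le).1 hx
      obtain ⟨b, hb, e⟩ := (o.emb.mem_im J0_A3).1 (conj_mem_of_mem_normalizer hg (mem_im_of ha))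
      exact (js.mem_im js.J_le).2 ⟨b, hb, Subtype.ext (by rw [v, e, ← v]; rfl)⟩
  have hz : Cx (κ z0) ≤ normalizer (img κ J0 : Set (Lx (ι (nv x4)))) := fun g hg => (tr g).2 (o.norm3 (h.cy ⟨mem_Cx.2 (by
    rw [← emb3_vals.2.2.2.1, ← v]; exact Subtype.ext_iff.1 (mem_Cx.1 hg)), Lx_le _ g.2⟩) (Lx_le _ g.2))
  rcases js.b3_cases with he | ⟨μ, s6⟩
  · have := S9c.case_B3 js (fun g hg => by
      obtain ⟨a, ha, rfl⟩ := js.exists_eq (hz hg)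
      exact mem_im_of ((by decide +kernel : ∀ a : W3, a * z0 = z0 * a → a ∈ S3) a
        ((js.comm_iff ha (mem_B3 _)).1 (mem_Cx.1 hg)))) he
    intro g hg
    obtain ⟨n, l, hl, rfl⟩ := o.cent_split ht hg
    exact mul_mem (pow_mem (le_normalizer (mem_gim_of (nv_JV _))) n)
      (o.norm_J3 ((tr ⟨l, hl⟩).1 (by rw [normalizer_eq_top]; exact mem_top _)))
  exfalso
  obtain ⟨e⟩ := S9c.SC.iso ⟨js, s6, hz⟩
  have cj : ∀ {a b}, IsConj (κ a) (κ b) → ∃ g : G, g * ι (emb3 a) * g⁻¹ = ι (emb3 b) := fun c => by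
    obtain ⟨g, c⟩ := isConj_iff.1 c
    exact ⟨g, by rw [← v, ← v, ← c]; rfl⟩
  have n1 : ∀ {a u}, emb3 a = nv u → ¬ IsConj (κ σ0) (κ a) := fun ea c => by
    obtain ⟨g, c⟩ := cj c
    rw [ea, emb3_vals.2.2.2.2.2.2.2.2.2] at c
    exact h.notJ (a := nl al) (show al ∈ XX by decide +kernel) (show act al yy ≠ yy by decide +kernel) g (c ▸ mem_gim_of (nv_JV _))
  have n2 : ∀ {a b u w}, emb3 a = nv u → emb3 b = nv w → qf w ≠ qf u → ¬ IsConj (κ a) (κ b) := fun ea eb n c => by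
    obtain ⟨g, c⟩ := cj c
    rw [ea, eb] at c
    obtain ⟨w, hw, rfl⟩ := o.control c
    exact n (by rw [qf_act, if_pos hw])
  obtain ⟨q1, -, -, q2, q3, -⟩ := emb3_vals
  have o3 : ∀ {a}, a ^ 3 = 1 ∧ a ≠ 1 → orderOf (κ a) = 3 := fun p => js.ord_three (mem_B3 _) p.1 p.2
  rcases four_three e (o3 (a := σ0) (by decide +kernel)) (o3 (a := e1) (by decide +kernel)) (o3 (a := z0) (by decide +kernel))
    (o3 (a := y1) (by decide +kernel)) with c | c | c | c | c | c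
  exacts [n1 q1 c, n1 q2 c, n1 q3 c, n2 q1 q2 (by decide +kernel) c, n2 q1 q3 (by decide +kernel) c, n2 q2 q3 (by decide +kernel) c]

end CfsgLib.Rec3C
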