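import Cfsg.Agent.Lib.Rec3C.Defs

/-! SET2, part a: computations with linear maps of `V81` (plans/REC3C.md) -/

set_option autoImplicit false
set_option maxRecDepth 100000
set_option maxHeartbeats 400000
set_option Elab.async false
set_option synthInstance.maxSize 2048

namespace CfsgLib.Rec3C

open Subgroup Cfsg CfsgLib.Tech CfsgLib.PComp CfsgLib.W2 CfsgLib.Rec3 CfsgLib.CosetEnum
open CfsgLib.Rec3B (V81)
open CfsgLib.Rec3B.W4 (V_comm V_cube)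
open V4

noncomputable section

/-- a linear map, given by the images of the basis -/
@[ext] structure L4 where
  a : V81
  b : V81
  c : V81
  d : V81

namespace L4

instance : DecidableEq L4 := fun S T =>
  decidable_of_iff (S.a = T.a ∧ S.b = T.b ∧ S.c = T.c ∧ S.d = T.d) L4.ext_iff.symm

instance (priority := high) decBAll (l : List L4) (P : L4 → Prop) [DecidablePred P] :
    Decidable (∀ g ∈ l, P g) := List.decidableBAll P l

instance (priority := high) decBEx (l : List L4) (P : L4 → Prop) [DecidablePred P] :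
    Decidable (∃ g ∈ l, P g) := List.decidableBEx P l

/-- the linear map -/
def ap (T : L4) : V81 →* V81 := ap4 T.a T.b T.c T.d

instance : Mul L4 := ⟨fun S T => ⟨S.ap T.a, S.ap T.b, S.ap T.c, S.ap T.d⟩⟩

/-- from indices -/
def n (i j k l : ℕ) : L4 := ⟨TG.o i, TG.o j, TG.o k, TG.o l⟩

/-- the map of an element of `GO` -/
def of (w : GO) : L4 := ⟨act w x1, act w x2, act w x3, act w x4⟩

instance : One L4 := ⟨⟨x1, x2, x3, x4⟩⟩

theorem ap_mul (S T : L4) (v : V81) : (S * T).ap v = S.ap (T.ap v) := by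
  obtain ⟨e1, e2, e3, e4⟩ := ap4_vals (S * T).a (S * T).b (S * T).c (S * T).d
  obtain ⟨f1, f2, f3, f4⟩ := ap4_vals T.a T.b T.c T.d
  exact DFunLike.congr_fun (hom_ext4 (f := (S * T).ap) (g := S.ap.comp T.ap)
    (e1.trans (congrArg S.ap f1.symm)) (e2.trans (congrArg S.ap f2.symm))
    (e3.trans (congrArg S.ap f3.symm)) (e4.trans (congrArg S.ap f4.symm))) v

theorem ap_of (w : GO) (v : V81) : (of w).ap v = act w v := by
  obtain ⟨e1, e2, e3, e4⟩ := ap4_vals (act w x1) (act w x2) (act w x3) (act w x4)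
  exact DFunLike.congr_fun (hom_ext4 (f := (of w).ap) (g := actH w) e1 e2 e3 e4) v

theorem ap_one (v : V81) : (1 : L4).ap v = v := by
  obtain ⟨e1, e2, e3, e4⟩ := ap4_vals x1 x2 x3 x4
  exact DFunLike.congr_fun (hom_ext4 (f := (1 : L4).ap) (g := MonoidHom.id _) e1 e2 e3 e4) v

theorem ext' {S T : L4} (h : ∀ v, S.ap v = T.ap v) : S = T := by
  obtain ⟨e1, e2, e3, e4⟩ := ap4_vals S.a S.b S.c S.d
  obtain ⟨f1, f2, f3, f4⟩ := ap4_vals T.a T.b T.c T.d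
  exact L4.ext (e1.symm.trans ((h _).trans f1)) (e2.symm.trans ((h _).trans f2))
    (e3.symm.trans ((h _).trans f3)) (e4.symm.trans ((h _).trans f4))

/-- the action of `a` -/
def tA : L4 := n 1 3 10 30

/-- the action of `b` -/
def tB : L4 := n 1 4 9 36

/-- the action of `c` -/
def tC (l : ℕ) : L4 := ⟨x1 * x2, x2, x3 * x4 * x2 ^ l, x4⟩

/-- powers -/
def pw (T : L4) : ℕ → L4
  | 0 => 1
  | k + 1 => pw T k * T

/-- the group generated by `tA` and `tB` -/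
def XL : List L4 := [n 1 3 9 27, n 1 4 9 36, n 1 5 9 45, n 1 3 10 30, n 1 4 10 40, n 1 5 10 50,
  n 1 3 11 33, n 1 4 11 44, n 1 5 11 52]

theorem XL_mul : ∀ S ∈ XL, ∀ T ∈ XL, S * T ∈ XL := by decide +kernel

theorem XL_mem : 1 ∈ XL ∧ tA ∈ XL ∧ tB ∈ XL := by decide +kernel

/-- the first change of the frame -/
def tN (l m m' : ℕ) : L4 := ⟨x1, x2, x3 * x2 ^ (2 * m) * x1 ^ (l + m), x4 * x1 ^ (2 * m')⟩

theorem tN_ok : ∀ l < 3, ∀ m < 3, ∀ m' < 3, (tN l m m').ap x1 = x1 ∧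
    (∀ v, ((tN l m m').ap v = 1 → v = 1) ∧ (((tN l m m').ap v).v < 27 ↔ v.v < 27)) ∧
    (⟨x1, x2, x3 * x1, x4 * x2⟩ : L4) * tN l m m' = tN l m m' * tA ∧
    (⟨x1, x2 * x1, x3, x4 * x3 * x1 ^ l * x2 ^ m⟩ : L4) * pw ⟨x1, x2, x3 * x1, x4 * x2⟩ m * tN l m m' =
      tN l m m' * tB ∧
    ∀ l' < 3, ∃ k < 3, (⟨x1 * x2, x2, x3 * x4 * x2 ^ l' * x1 ^ m', x4⟩ : L4) *
      pw ⟨x1, x2, x3 * x1, x4 * x2⟩ m' * tN l m m' = tN l m m' * tC k := by
  decide +kernel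

theorem viol : ∀ k < 3, k = 0 ∨ ∃ T ∈ [n 1 5 10 53, n 1 5 11 49],
    tC k * tB * tB * tC k * tB * tC k * tC k = T ∧ T.ap x1 = x1 ∧ T * T * T = 1 ∧ T ∉ XL := by
  decide +kernel

/-- the six possible actions of `t` -/
def six : List L4 := [n 1 9 3 27, n 1 10 5 50, n 1 11 4 44, n 1 18 6 27, n 1 19 7 52, n 1 20 8 40]

theorem t_cases : ∀ b : V81, b.v < 27 → ∀ c : V81, c.v < 27 → ap4 x1 b c 1 b = x2 → ap4 x1 b c 1 c = x3 →
    ∀ d : V81, (x4 * d⁻¹).v < 27 → ∀ T ∈ [(⟨x1, b, c, d⟩ : L4)], T.ap d = x4 → T * tA * T ∈ XL →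
      T * tB * T ∈ XL → T ∈ six ∨
      ((∀ U ∈ XL, T * U * T * U = 1 → U = 1) ∧ ∀ v : V81, v.v < 27 → (T.ap v * v).v < 3 → v.v < 3) ∨
      ((∀ U ∈ XL, T * U * T = U → U = 1) ∧ ∀ v : V81, v.v < 27 → T.ap v = v → v.v < 3) := by
  decide +kernel

/-- the second change of the frame -/
def recs : List (L4 × GO × GO) := [(n 67 79 56 21, TG.o 224, TG.o 180), (n 62 65 75 23, TG.o 224, TG.o 173),
  (n 74 59 69 22, TG.o 224, TG.o 190), (n 43 49 29 24, TG.o 160, TG.o 249), (n 47 35 39 25, TG.o 160, TG.o 234),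
  (n 32 38 51 26, TG.o 160, TG.o 243)]

instance (priority := high) decBExR (l : List (L4 × GO × GO)) (P : L4 × GO × GO → Prop) [DecidablePred P] :
    Decidable (∃ g ∈ l, P g) := List.decidableBEx P l

theorem six_ok : ∀ T ∈ six, ∃ R ∈ recs, T * R.1 = R.1 * of r4 ∧ R.1.ap zz = x1 ∧
    (∀ v, (R.1.ap v = 1 → v = 1) ∧ ((R.1.ap v).v < 27 ↔ Perp v zz)) ∧ tA * R.1 = R.1 * of (TG.o 128) ∧
    tB * R.1 = R.1 * of R.2.1 ∧ tC 0 * R.1 = R.1 * of R.2.2 ∧ R.2.1 ∈ XX ∧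
    TG.sp [TG.o 128, R.2.1, R.2.2, r4 * R.2.2 * r4] 6 = 2 ^ 288 - 1 := by
  decide +kernel

end L4

theorem om_lt : ∀ w ∈ Om, bit (2 ^ 288 - 1) w.v = true := by decide +kernel

theorem o128 : (TG.o 128 : GO) ∈ XX := by decide +kernel

theorem sing_om : ∀ v, qf v = 0 → v = 1 ∨ ∃ k < 32, act (TG.o k) zz = v := by decide +kernel

theorem lt_om : ∀ k < 288, (TG.o k : GO) ∈ Om := by decide +kernel

theorem nons_om : ∀ v, qf v ≠ 0 → ∃ k < 128, act (TG.o k) v = v ∧ (TG.o k : GO) ^ 3 = 1 ∧ ∃ l < 128,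
    act (TG.o l) v = v ∧ (TG.o l : GO) ^ 3 = 1 ∧ (TG.o k : GO) * TG.o l ≠ TG.o l * TG.o k := by
  decide +kernel

theorem nons_x4 : ∀ v, qf v ≠ 0 → ∃ k < 288, act (TG.o k) x4 = v ∨ act (TG.o k) yy = v := by decide +kernel

theorem sim_x4 : ∀ a b : V81, qf (a * b * x4) = 0 → qf (a * b * x4⁻¹) = 0 → qf (a * b⁻¹ * x4) = 0 →
    qf (a⁻¹ * b * x4) = 0 → qf a ≠ 0 → qf b ≠ 0 → ∀ c, qf (a * c * x4) = 0 → qf (a * c * x4⁻¹) = 0 →
      qf (a * c⁻¹ * x4) = 0 → qf (a⁻¹ * c * x4) = 0 → qf (b * c * x4) = 0 → qf (b * c⁻¹ * x4) = 0 →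
        ∃ s, act (e48 s) x1 = a ∧ act (e48 s) x2 = b ∧ act (e48 s) x3 = c := by
  decide +kernel

theorem m1_facts : m1 ∈ Om ∧ (∀ v, act m1 v = v⁻¹) ∧ r4 * r4 = 1 := by decide +kernel

theorem e48_x4 : ∀ s, act (e48 s) x4 = x4 := by decide +kernel

end

end CfsgLib.Rec3C
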