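import Cfsg.Agent.Lib.Rec3C.Kc1
import Cfsg.Agent.Lib.Rec3C.E27b
import Cfsg.Agent.Lib.Rec3.FT
import Cfsg.Agent.Lib.Pat.NW
import Cfsg.Agent.Lib.Comp.FStar

/-! HO: `C(r) = 2^{1+8} . (S₃ × S₃ × S₃)` (plans/REC3C.md) -/

set_option autoImplicit false
set_option maxRecDepth 100000
set_option maxHeartbeats 400000

namespace CfsgLib.Rec3C

open Subgroup Cfsg CfsgLib.Tech CfsgLib.PComp CfsgLib.W2 CfsgLib.Rec3
open CfsgLib.Rec3B (V81 EQ Q8 KC EE MM Ri TyE zi gi neg)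
open CfsgLib.U43 (SL)
open V4

variable {G : Type*} [Group G] [Finite G] {κ : W3 → G} {r : G} {R H0 : Subgroup G}

namespace Ho

theorem J_T : J0 ≤ T3 := show ∀ a ∈ J0, a ∈ T3 by decide +kernel

theorem T_A : T3 ≤ A24 := show ∀ a ∈ T3, a ∈ A24 by decide +kernel

theorem J_A : J0 ≤ A24 := J_T.trans T_A

theorem B_J : B0 ≤ J0 := show ∀ a ∈ B0, a ∈ J0 by decide +kernel

theorem T_sq : ∀ a ∈ T3, a * a ∈ J0 := by decide +kernel

theorem T_conj {a b : W3} (hb : b ∈ T3) : a * b * a⁻¹ ∈ T3 := by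
  have : ∀ s t : W48, bit 0xff t.v = true → bit 0xff (s * t * s⁻¹).v = true := by decide +kernel
  have := this (pr a) (pr b) hb
  rwa [← map_inv, ← map_mul, ← map_mul] at this

theorem reps : ∀ x ∈ J0, x ≠ 1 → ∃ s : W48, lin s ∈ A24 ∧
    (lin s * x * (lin s)⁻¹ = e3 ∨ lin s * x * (lin s)⁻¹ = y1 ∨ lin s * x * (lin s)⁻¹ = z0) := by decide +kernel

variable (h : HD κ r R H0)
include h

omit [Finite G] in
theorem memT {a : W3} (ha : a ∈ T3) : κ a ∈ H0 := (h.mA a (T_A ha)).2 ha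

theorem copE : (Nat.card (EE κ R)).Coprime 3 := by rw [h.card_E]; norm_num

theorem E_le : EE κ R ≤ H0 := fun g hg =>
  h.m3 g ((copE h).coprime_dvd_left (Subgroup.orderOf_dvd_natCard _ hg))

omit [Finite G] in
theorem P_le : img κ J0 ≤ H0 := im_le.2 fun _ ha => memT h (J_T ha)

theorem nE {a : W3} (ha : a ∈ A24) {x : G} (hx : x ∈ EE κ R) : κ a * x * (κ a)⁻¹ ∈ EE κ R :=
  conj_mem_of_mem_normalizer (h.mem_M ha) hx

theorem normT {g : G} (hg : g ∈ H0) (hn : g ∈ normalizer (img κ J0 : Set G)) :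
    ∃ a ∈ T3, g = κ a ∨ g = κ a * r := by
  obtain ⟨a, ha, e⟩ := h.norm g hn
  refine ⟨a, (h.mA a ha).1 ?_, e⟩
  rcases e with rfl | rfl
  exacts [hg, (mul_mem_cancel_right (E_le h h.r_mem)).1 hg]

theorem sylP : IsSylowIn 3 (img κ J0) H0 := by
  refine sylow_of (h.im_pgroup J_A (Jx.S0_pgroup.to_le J0_le_S0)) (P_le h) fun x hx hn ⟨n, e⟩ => ?_
  obtain ⟨a, ha, e1⟩ := normT h hx hn
  refine mem_of_coprime_pow (a := 2) (b := 3 ^ n) (Nat.Coprime.pow_right _ (by norm_num)) ?_ (e ▸ one_mem _)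
  have : x ^ 2 = κ (a * a) := by
    rw [pow_two, h.mul (T_A ha) (T_A ha)]
    rcases e1 with rfl | rfl
    · rfl
    · rw [mul_assoc, ← mul_assoc r, ← h.rc, mul_assoc, h.rr, mul_one]
  exact this ▸ mem_im_of (T_sq a ha)

theorem le_E {N : Subgroup G} (h1 : N ≤ H0) (h2 : H0 ≤ normalizer (N : Set G)) (h3 : (Nat.card N).Coprime 3) :
    N ≤ EE κ R := h.sig h3 ((P_le h).trans h2) ((inf_le_inf_right _ h1).trans h.cz)

theorem cop_of {N : Subgroup G} (h1 : N ≤ H0) (h2 : H0 ≤ normalizer (N : Set G))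
    (h3 : ∀ a ∈ J0, κ a ∈ N → a = 1) : (Nat.card N).Coprime 3 := by
  refine coprime_three_of fun x hx e => ?_
  obtain ⟨g, hg, h4⟩ := (sylP h).exists_conj_mem (h1 hx) (isPGroup_zpowers_of_pow (k := 1) (by rwa [pow_one]))
  obtain ⟨a, ha, e1⟩ := (h.mem_im J_A).1 h4
  rw [h3 a ha (e1 ▸ conj_mem_of_mem_normalizer (h2 hg) hx), h.one, eq_comm, conj_eq_one_iff] at e1
  exact e1

/-- `g ∈ E T3` -/
def InF (κ : W3 → G) (R : Subgroup G) (g : G) : Prop := ∃ x ∈ EE κ R, ∃ b ∈ T3, g = x * κ b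

theorem inF_norm {g : G} (hg : g ∈ H0) (hn : g ∈ normalizer (img κ J0 : Set G)) : InF κ R g := by
  obtain ⟨a, ha, e | e⟩ := normT h hg hn
  exacts [⟨1, one_mem _, a, ha, by rw [e, one_mul]⟩, ⟨r, h.r_mem, a, ha, by rw [e, h.rc]⟩]

theorem inF_cent {x : W3} (hx : x ∈ J0) (x1 : x ≠ 1) {g : G} (hg : g ∈ H0) (hc : g ∈ Cx (κ x)) : InF κ R g := by
  obtain ⟨s, hs, e⟩ := reps x hx x1
  generalize lin s = a at hs e
  have h1 : κ a * g * (κ a)⁻¹ ∈ H0 := h.nrm.conj_mem _ hg _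
  have h2 : κ a * g * (κ a)⁻¹ ∈ Cx (κ (a * x * a⁻¹)) := by
    rw [← h.conj hs (J_A hx), mem_Cx, conj_mul, conj_mul, mem_Cx.1 hc]
  have h3 : InF κ R (κ a * g * (κ a)⁻¹) := by
    generalize κ a * g * (κ a)⁻¹ = g at h1 h2
    rcases e with e | e | e <;> rw [e] at h2
    · exact inF_norm h h1 (h.ce ⟨h1, h2⟩)
    · obtain ⟨u, hu, v, hv, n, hn, rfl⟩ := h.cy g h2
      have h4 : u * (κ w0 * v * (κ w0)⁻¹) ∈ EE κ R := mul_mem (h.R_le hu) (nE h (by decide +kernel) (h.R_le hv))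
      obtain ⟨y, hy, b, hb, rfl⟩ := inF_norm h ((mul_mem_cancel_left (E_le h h4)).1 h1) hn
      exact ⟨_, mul_mem h4 hy, b, hb, (mul_assoc _ _ _).symm⟩
    · obtain ⟨y, hy, b, hb, rfl⟩ := h.czy g h2 (h.cz ⟨h1, h2⟩)
      exact ⟨y, h.R_le hy, b, J_T hb, rfl⟩
  obtain ⟨y, hy, b, hb, e1⟩ := h3
  refine ⟨_, nE h (inv_mem hs) hy, _, T_conj (a := a⁻¹) hb, ?_⟩
  rw [← h.conj (inv_mem hs) (T_A hb), conj_mul, ← e1, h.inv hs]
  group

/-- an element with square `r` inverts no element of `J` -/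
theorem not_inv {u : G} (hu : u ∈ H0) (uu : u * u = r) {x : W3} (hx : x ∈ J0) (x1 : x ≠ 1) :
    u * κ x * u⁻¹ ≠ (κ x)⁻¹ := fun e => by
  have hi : i0 ∈ T3 := by decide +kernel
  have e0 : κ i0 * κ x * (κ i0)⁻¹ = (κ x)⁻¹ := by
    rw [h.conj_eq (T_A hi) (J_A hx) ((by decide +kernel : ∀ x ∈ J0, i0 * x * i0⁻¹ = x⁻¹) x hx), h.inv (J_A hx)]
  obtain ⟨y, hy, c, hc, e4⟩ := inF_cent h hx x1 (mul_mem hu (memT h hi)) (mem_Cx'.2 (by
    rw [show u * κ i0 * κ x * (u * κ i0)⁻¹ = u * (κ i0 * κ x * (κ i0)⁻¹) * u⁻¹ by group, e0, ← conj_inv, e, inv_inv]))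
  obtain ⟨b, hb, rfl⟩ : ∃ b ∈ T3, u = y * κ b := ⟨c * i0⁻¹, mul_mem hc (inv_mem hi), by
    rw [h.mul (T_A hc) (T_A (inv_mem hi)), h.inv (T_A hi), ← mul_assoc, ← e4, mul_inv_cancel_right]⟩
  have hA := T_A hb
  have bb : b * b = 1 := by_contra fun h1 => h.not_mem_E (mul_mem hA hA) h1 (by
    have := mul_mem (inv_mem (mul_mem hy (nE h hA hy))) (uu ▸ h.r_mem)
    rw [h.mul hA hA]
    convert this using 1
    group)
  have b1 : b ≠ 1 := by
    rintro rfl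
    rw [h.one, mul_one] at e
    refine h.not_mem_E (J_A (mul_mem hx hx)) ((by decide +kernel : ∀ x ∈ J0, x ≠ 1 → x * x ≠ 1) x hx x1) ?_
    have := mul_mem (nE h (J_A hx) hy) (inv_mem hy)
    rw [h.mul (J_A hx) (J_A hx)]
    convert this using 1
    rw [mul_assoc, mul_assoc, ← mul_assoc y, ← conj_inv, e, inv_inv]
  obtain ⟨a, ha, e5⟩ : ∃ a, TyE a ∧ b * a * b⁻¹ = a⁻¹ := by
    rcases (by decide +kernel : ∀ b ∈ T3, b * b = 1 → b ≠ 1 →
      b * e1 * b⁻¹ = e1⁻¹ ∨ b * e2 * b⁻¹ = e2⁻¹ ∨ b * e3 * b⁻¹ = e3⁻¹) b hb bb b1 with e | e | e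
    exacts [⟨_, .inl rfl, e⟩, ⟨_, .inr (.inl rfl), e⟩, ⟨_, .inr (.inr (.inl rfl)), e⟩]
  obtain ⟨w, -, e3⟩ := h.conj_out ha hA bb e5 hy (uu ▸ mem_zpowers r)
  have h1 : κ b * κ b = 1 := by rw [← h.mul hA hA, bb, h.one]
  refine h.r1 (conj_eq_one_iff.1 (show w * r * w⁻¹ = 1 from ?_))
  rw [← uu, ← conj_mul]
  rcases e3 with e3 | e3 <;> rw [e3]
  · exact h1
  · rw [mul_assoc, ← mul_assoc r, ← h.rc, mul_assoc, h.rr, mul_one, h1]

theorem q_mem {q : G} (hq : q ∈ R) (qq : q * q = r) : q ∈ opOf 3 H0 := by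
  obtain ⟨j1, -, j3⟩ := Jx.J0_elem h.toEmb J_A
  have hBA := B_J.trans J_A
  obtain ⟨N, h1, h2, -, h3, h4⟩ := k3 (Z := zpowers r) (u := q) (sylP h) (im_mono B_J) (by
      have := card_mul_relIndex' (im_mono (ι := κ) B_J)
      rw [j3, h.card_im hBA, Rec3.cards.2.2.2.2.2.2.2.2.1] at this
      omega)
    (fun k hk x hx hkx => by
      obtain ⟨n, hn, h1, e⟩ := control_wc (sylP h) le_rfl j1
        (fun k _ hk => eq_of_le_of_card_ge hk (card_cj _ _).ge) (im_mono B_J hx) hk hkx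
      obtain ⟨b, hb, rfl⟩ := (h.mem_im hBA).1 hx
      obtain ⟨a, ha, e1⟩ := normT h hn h1
      have : n * κ b * n⁻¹ = κ (a * b * a⁻¹) := by
        rw [← h.conj (T_A ha) (hBA hb)]
        rcases e1 with rfl | rfl
        · rfl
        · rw [mul_inv_rev, mul_assoc (κ a), ← h.rc]; group
      rw [← e, this]
      exact mem_im_of ((by decide +kernel : ∀ b ∈ B0, ∀ a ∈ T3, a * b * a⁻¹ ∈ B0) b hb a ha))
    (zpowers_le.2 (E_le h h.r_mem)) (fun k _ z hz => comm_of_mem_zpowers' (mem_Cx.2 (h.rc k)) hz)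
    (by rw [Nat.card_zpowers, ord_two h.rr h.r1]; norm_num) (E_le h (h.R_le hq)) (qq ▸ mem_zpowers r)
    fun k hk x hx hxL => by
      obtain ⟨a, ha, rfl⟩ := (h.mem_im J_A).1 hx
      exact not_inv h (h.nrm.conj_mem _ (E_le h (h.R_le hq)) k) (by rw [conj_mul, qq, h.rc, mul_inv_cancel_right]) ha
        fun e => hxL (by rw [e, h.one]; exact one_mem _)
  have hσ : σ0 ∈ A24 := by decide +kernel
  have := h.nrm
  have hn : ∀ g, H0 ≤ normalizer (cj g N : Set G) := fun g => by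
    rw [← cj_normalizer]; exact (cj_eq_of_normal g H0).ge.trans (cj_mono g h2)
  have hc : ∀ a ∈ A24, ∀ b ∈ J0, κ b ∈ cj (κ a) N → a⁻¹ * b * a⁻¹⁻¹ ∈ B0 := fun a ha b hb e => by
    rw [mem_cj, ← h.inv ha, ← inv_inv (κ a), ← h.inv ha, h.conj (inv_mem ha) (J_A hb)] at e
    exact (h.mem_im_iff hBA (J_A (J0_conj _ hb))).1 (h4 ⟨e, mem_im_of (J0_conj _ hb)⟩)
  have hq' : ∀ a ∈ Q0, q ∈ cj (κ a) N := fun a ha => by
    rwa [mem_cj, mul_assoc, ← h.RQ q hq a ha, inv_mul_cancel_left]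
  have h5 : cj (κ 1) N ⊓ cj (κ σ0) N ⊓ cj (κ σ0⁻¹) N ≤ H0 :=
    (inf_le_left.trans inf_le_left).trans ((cj_mono _ h1).trans (cj_eq_of_normal _ H0).le)
  have h6 : H0 ≤ normalizer ((cj (κ 1) N ⊓ cj (κ σ0) N ⊓ cj (κ σ0⁻¹) N : Subgroup G) : Set G) :=
    (le_inf ((le_inf (hn _) (hn _)).trans inf_normalizer_le_normalizer_inf) (hn _)).trans
      inf_normalizer_le_normalizer_inf
  exact le_opOf h5 h6 (cop_of h h5 h6 fun b hb e => (by decide +kernel : ∀ b ∈ J0, 1⁻¹ * b * 1⁻¹⁻¹ ∈ B0 →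
    σ0⁻¹ * b * σ0⁻¹⁻¹ ∈ B0 → σ0⁻¹⁻¹ * b * σ0⁻¹⁻¹⁻¹ ∈ B0 → b = 1) b hb (hc _ (one_mem _) b hb e.1.1)
      (hc _ hσ b hb e.1.2) (hc _ (inv_mem hσ) b hb e.2))
    ⟨⟨hq' _ (one_mem _), hq' _ (by decide +kernel)⟩, hq' _ (by decide +kernel)⟩

theorem E_eq : EE κ R = opOf 3 H0 := by
  have := h.nrm
  refine le_antisymm (iSup_le fun i => cj_le_iff.2 fun y hy => conj_mem_of_mem_normalizer
    (normalizer_le_normalizer_opOf H0 (le_normalizer_of_normal (mem_top _))) ?_)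
    (le_E h (opOf_le _) (le_normalizer_opOf _) (coprime_card_opOf _))
  rcases h.sq y hy with rfl | rfl | e
  · exact one_mem _
  · exact le_opOf (zpowers_le.2 (E_le h h.r_mem)) (fun g _ => mem_normalizer_of_forall fun z hz => by
      rwa [comm_of_mem_zpowers' (mem_Cx.2 (h.rc g)) hz, mul_inv_cancel_right])
      (by rw [Nat.card_zpowers, ord_two h.rr h.r1]; norm_num) (mem_zpowers y)
  · exact q_mem h hy e

theorem emb {L : Type*} [Group L] {f : G →* L} (hf : f.ker = EE κ R) : Emb T3 (f ∘ κ) where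
  mul ha hb := (congrArg f (h.mul (T_A ha) (T_A hb))).trans (map_mul _ _ _)
  inj {a b} ha hb e := by
    by_contra hn
    refine h.not_mem_E (T_A (mul_mem (inv_mem ha) hb)) (fun e => hn (inv_mul_eq_one.1 e)) ?_
    rw [h.mul (T_A (inv_mem ha)) (T_A hb), h.inv (T_A ha), ← hf, MonoidHom.mem_ker, map_mul, map_inv, inv_mul_eq_one]
    exact e

theorem map_eq {L : Type*} [Group L] [Finite L] {f : G →* L} (hf : f.ker = EE κ R) :
    H0.map f = img (f ∘ κ) T3 := by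
  have k := emb h hf
  have hF : ∀ {g}, InF κ R g → f g ∈ img (f ∘ κ) T3 := by
    rintro _ ⟨x, hx, b, hb, rfl⟩
    rw [map_mul, MonoidHom.mem_ker.1 (hf ▸ hx), one_mul]
    exact mem_im_of (ι := f ∘ κ) hb
  have hT : img (f ∘ κ) T3 ≤ H0.map f := im_le.2 fun a ha => mem_map_of_mem f (memT h ha)
  have hE : H0 ≤ normalizer (EE κ R : Set G) := hf ▸ le_normalizer_of_normal
  have hN : H0.map f ⊓ normalizer (img (f ∘ κ) J0 : Set L) ≤ img (f ∘ κ) T3 := by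
    rintro _ ⟨⟨g, hg, rfl⟩, hl⟩
    have h1 : (img (f ∘ κ) J0).comap f ≤ H0 := fun x hx => by
      obtain ⟨a, ha, e⟩ := (k.mem_im J_T).1 hx
      have : (κ a)⁻¹ * x ∈ EE κ R := by
        rw [← hf, MonoidHom.mem_ker, map_mul, map_inv, inv_mul_eq_one]; exact e
      exact (mul_mem_cancel_left (inv_mem (memT h (J_T ha)))).1 (E_le h this)
    obtain ⟨n, hn, e⟩ := ((sylP h).of_le (im_le.2 fun a ha => mem_im_of (ι := f ∘ κ) ha) h1).frattini
      (g := g) (mem_normalizer_of_forall fun x hx => by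
        rw [mem_comap, map_mul, map_mul, map_inv]; exact conj_mem_of_mem_normalizer hl hx)
    have := hF (inF_norm h (mul_mem (h1 hn) hg) e)
    rwa [map_mul, mul_mem_cancel_left (im_mono J_T hn)] at this
  refine le_antisymm (fun l hl => hN ⟨hl, e27b k hT hN (fun x hx x1 => ?_) hl⟩) hT
  rintro _ ⟨⟨g, hg, rfl⟩, hc⟩
  obtain ⟨v, hv, e⟩ := exists_fix (copE h) (k := 1) (y := κ x) (w := g) (by
      rw [pow_one, ← h.pow (J_A hx), J0_cube _ hx, h.one]) (h.mem_M (J_A hx)) (hE hg) (by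
    rw [Cj, ← hf, MonoidHom.mem_ker, map_mul, map_mul, map_mul, map_inv, map_inv,
      show f (κ x) * f g = f g * f (κ x) from (mem_Cx.1 hc).symm, mul_inv_cancel_right, mul_inv_cancel])
  have := hF (inF_cent h hx x1 (mul_mem (E_le h hv) hg) e)
  rw [map_mul, MonoidHom.mem_ker.1 (hf ▸ hv), one_mul] at this
  obtain ⟨b, hb, e1⟩ := (k.mem_im le_rfl).1 this
  rw [← e1]
  refine mem_normalizer_of_forall fun y hy => ?_
  obtain ⟨c, hc, rfl⟩ := (k.mem_im J_T).1 hy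
  rw [k.conj hb (J_T hc)]
  exact mem_im_of (J0_conj b hc)

theorem cent_E : H0 ⊓ centralizer (EE κ R : Set G) ≤ EE κ R := by
  have hn : H0 ≤ normalizer ((H0 ⊓ centralizer (EE κ R : Set G) : Subgroup G) : Set G) :=
    (le_inf le_normalizer ((E_eq h ▸ le_normalizer_opOf H0).trans (Core.normalizer_le_normalizer_centralizer _))).trans
      inf_normalizer_le_normalizer_inf
  refine le_E h inf_le_left hn (cop_of h inf_le_left hn fun a ha e => by_contra fun a1 => ?_)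
  obtain ⟨s, hb, ht⟩ := (by decide +kernel : ∀ a ∈ J0, a ≠ 1 → ∃ s : W48, lin s ∈ T3 ∧
    TyE (lin s * a * (lin s)⁻¹ * a⁻¹)) a ha a1
  generalize lin s = b at hb ht
  have h1 := mul_mem (conj_mem_of_mem_normalizer (hn (memT h hb)) e) (inv_mem e)
  rw [h.conj (T_A hb) (J_A ha), ← h.inv (J_A ha), ← h.mul (J_A (J0_conj b ha)) (J_A (inv_mem ha))] at h1
  have h2 : EE κ R ≤ zpowers r := fun x hx => by
    rcases h.fpf_e ht hx (by rw [Cj, ← h1.2 x hx, mul_inv_cancel_right, mul_inv_cancel]; exact one_mem _) with rfl | rfl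
    exacts [one_mem _, mem_zpowers _]
  have := card_le_of_le h2
  rw [h.card_E, Nat.card_zpowers, ord_two h.rr h.r1] at this
  omega

end Ho

open Ho

theorem HD.normal_E (h : HD κ r R H0) : (EE κ R).Normal := by
  have := h.nrm
  rw [E_eq h, ← normalizer_eq_top_iff, eq_top_iff]
  exact le_normalizer_of_normal.trans (normalizer_le_normalizer_opOf H0)

theorem HD.eq (h : HD κ r R H0) : H0 = EE κ R ⊔ img κ T3 := by
  have := h.normal_E
  have hf := QuotientGroup.ker_mk' (EE κ R)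
  refine le_antisymm (fun g hg => ?_) (sup_le (E_le h) (im_le.2 fun _ => memT h))
  obtain ⟨a, ha, e⟩ := ((emb h hf).mem_im le_rfl).1 (map_eq h hf ▸ mem_map_of_mem _ hg)
  exact (mul_mem_cancel_left (inv_mem (mem_sup_right (mem_im_of ha)))).1 (mem_sup_left (QuotientGroup.eq.1 e))

theorem HD.main (h : HD κ r R H0) {C : Type*} [Group C] (e : C ≃* H0) :
    IsExtraspecial 2 (generalizedFittingSubgroup C) ∧ Nat.card (generalizedFittingSubgroup C) = 2 ^ 9 ∧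
      Nonempty (C ⧸ pCore 2 C ≃* Equiv.Perm (Fin 3) × Equiv.Perm (Fin 3) × Equiv.Perm (Fin 3)) ∧
      centralizer (pCore 2 C : Set C) ≤ pCore 2 C := by
  have := h.normal_E
  have : Finite C := Finite.of_equiv _ e.toEquiv.symm
  have hf := QuotientGroup.ker_mk' (EE κ R)
  obtain ⟨φ, hφ, hr⟩ : ∃ φ : C →* G, Function.Injective φ ∧ φ.range = H0 := ⟨H0.subtype.comp e.toMonoidHom,
    Subtype.val_injective.comp e.injective, by
      rw [MonoidHom.range_comp, MonoidHom.range_eq_top.2 e.surjective, ← MonoidHom.range_eq_map, range_subtype]⟩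
  have h1 : (pCore 2 C).map φ = EE κ R := by
    refine le_antisymm (le_E h (hr ▸ map_le_range _ _) ?_ ?_) ?_
    · rintro _ hg
      obtain ⟨g, rfl⟩ : _ ∈ φ.range := hr ▸ hg
      exact le_normalizer_map φ (mem_map_of_mem φ (le_normalizer_of_normal (mem_top g)))
    · obtain ⟨n, hn⟩ := ((Core.isPGroup_pCore 2 C).map φ).exists_card_eq
      rw [hn]
      exact Nat.Coprime.pow_left _ (by norm_num)
    · rw [← map_comap_eq_self (f := φ) (H := EE κ R) (hr ▸ E_le h)]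
      exact map_mono (Core.le_pCore ((IsPGroup.of_card h.card_E).comap_of_injective φ hφ))
  have h2 : centralizer (pCore 2 C : Set C) ≤ pCore 2 C := fun c hc => by
    rw [← mem_map_iff_mem hφ, h1]
    refine cent_E h ⟨hr ▸ ⟨c, rfl⟩, fun x hx => ?_⟩
    obtain ⟨y, hy, rfl⟩ : x ∈ (pCore 2 C).map φ := h1 ▸ hx
    rw [← map_mul, ← map_mul, hc y hy]
  have e1 : pCore 2 C ≃* EE κ R := (equivMapOfInjective _ φ hφ).trans (MulEquiv.subgroupCongr h1)
  rw [Comp.fstar_eq_pCore_iff.2 h2]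
  refine ⟨Pat.extraspecial_congr e1.symm h.extraspecial, (Nat.card_congr e1.toEquiv).trans h.card_E,
    T3_equiv.map fun e2 => ?_, h2⟩
  have k := emb h hf
  refine (QuotientGroup.quotientMulEquivOfEq (N := ((QuotientGroup.mk' (EE κ R)).comp φ).ker) ?_).trans
    ((QuotientGroup.quotientKerEquivRange _).trans ((MulEquiv.subgroupCongr ?_).trans
      ((MonoidHom.ofInjective k.hom_inj).symm.trans e2)))
  · rw [← MonoidHom.comap_ker, hf, ← h1, comap_map_eq_self_of_injective hφ]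
  · rw [MonoidHom.range_comp, hr, map_eq h hf, k.im_eq le_rfl, subgroupOf_self, ← MonoidHom.range_eq_map]

end CfsgLib.Rec3C
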