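import Cfsg.Agent.Lib.Rec3C.Kc1
import Cfsg.Agent.Lib.Rec3.S9End
import Cfsg.Agent.Lib.Rec3.FT

/-! ME: a Sylow `2`-subgroup of `C(r)` (plans/REC3C.md) -/

set_option autoImplicit false
set_option maxRecDepth 100000
set_option maxHeartbeats 400000

namespace CfsgLib.Rec3C

open Subgroup Cfsg CfsgLib.Tech CfsgLib.PComp CfsgLib.W2 CfsgLib.Rec3
open CfsgLib.Rec3B (V81 EQ Q8 KC EE MM Ri TyE zi gi neg)
open CfsgLib.U43 (SL)
open V4

variable {G : Type*} [Group G] [Finite G] {κ : W3 → G} {r : G} {R : Subgroup G}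

namespace Me

theorem leB (K : Subgroup W3) : K ≤ B3 := fun a _ => mem_B3 a

omit [Finite G] in
theorem E_le : EE κ R ≤ MM κ R := le_normalizer

variable (h : HB κ r R)
include h

theorem copE : (Nat.card (EE κ R)).Coprime 3 := by rw [h.card_E]; norm_num

theorem mM (a : W3) : κ a ∈ MM κ R := h.mem_M (mem_B3 a)

/-- a `3'`-subgroup normalised by `J` lies in `E` -/
theorem sig {W : Subgroup G} (hW : (Nat.card W).Coprime 3) (hn : img κ J0 ≤ normalizer (W : Set G)) :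
    W ≤ EE κ R := by
  refine h.sig hW hn fun u hu => ?_
  have hy := Jx.mems.2.2.2.2.2.1
  have m := mem_B3
  obtain ⟨y, hy', a, rfl⟩ := h.cz u hu.2
  have hj : a * y1 * a⁻¹ * y1⁻¹ ∈ J0 := mul_mem (J0_conj a hy) (inv_mem hy)
  have h1 : y * κ a * κ y1 * (y * κ a)⁻¹ * (κ y1)⁻¹ ∈ W := by
    simpa [mul_assoc] using mul_mem hu.1 (conj_mem_of_mem_normalizer (hn (mem_im_of hy)) (inv_mem hu.1))
  have hf : y * (κ (a * y1 * a⁻¹) * y⁻¹ * (κ (a * y1 * a⁻¹))⁻¹) ∈ EE κ R :=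
    mul_mem (h.R_le hy') (conj_mem_of_mem_normalizer (mM h _) (inv_mem (h.R_le hy')))
  have e2 : y * κ a * κ y1 * (y * κ a)⁻¹ * (κ y1)⁻¹ =
      y * (κ (a * y1 * a⁻¹) * y⁻¹ * (κ (a * y1 * a⁻¹))⁻¹) * κ (a * y1 * a⁻¹ * y1⁻¹) := by
    rw [h.mul (m (a * y1 * a⁻¹)) (m _), h.inv (m _), ← h.conj (m _) (m _)]; group
  rw [e2] at h1
  have h6 := h.eq_one_of_mem_E hj ((mul_mem_cancel_left hf).1 (mem_of_coprime_pow hW
    (Rec3B.KC.KE2.pow_eq_one_of_mem h1 ▸ one_mem _) (KC1.cube_mem' hf (mM h _) (h.cube hj ▸ one_mem _))))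
  refine mul_mem (h.mem_R.1 hy').2.1 (mem_Cx'.2 ?_)
  rw [h.conj (m _) (m _), mul_inv_eq_one.1 h6]

section quo

variable {L : Type*} [Group L] [Finite L] {f : MM κ R →* L} {ι : W3 → L} (hs : Function.Surjective f)
  (hf : ∀ x : MM κ R, f x = 1 ↔ (x : G) ∈ EE κ R) (hκ : ∀ a, f ⟨κ a, mM h a⟩ = ι a)
include hf hκ

omit [Finite L] in
theorem emb : Emb B3 ι where
  mul {a b} ha hb := by
    rw [← hκ, ← hκ, ← hκ, ← map_mul]
    exact congrArg f (Subtype.ext (h.mul ha hb))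
  inj {a b} ha hb e := by
    by_contra hn
    refine h.not_mem_E (mul_mem (inv_mem ha) hb) (fun e => hn (inv_mul_eq_one.1 e)) ?_
    rw [← hκ, ← hκ, ← inv_mul_eq_one, ← map_inv, ← map_mul, hf] at e
    rw [h.mul (inv_mem ha) hb, h.inv ha]
    exact e

omit [Finite L] in
theorem f_mul {g : MM κ R} {y : G} (hy : y ∈ EE κ R) {a : W3} (e : (g : G) = y * κ a) : f g = ι a := by
  rw [← hκ a, ← one_mul (f ⟨κ a, _⟩), ← (hf ⟨y, E_le hy⟩).2 hy, ← map_mul]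
  exact congrArg f (Subtype.ext e)

omit [Finite L] in
theorem f_norm {g : MM κ R} (hg : (g : G) ∈ normalizer (img κ J0 : Set G)) :
    ∃ a, f g = ι a ∧ (g : G) * g = κ (a * a) := by
  obtain ⟨a, -, -, e1, e2⟩ := h.exists_act hg
  exact ⟨a, f_mul h hf hκ (h.R_le e2) (inv_mul_cancel_right _ _).symm, e1⟩

omit [Finite L] hf in
theorem im_le_pre {K : Subgroup W3} : img κ K ≤ qpre f (img ι K) := im_le.2 fun a ha =>
  (mem_pre (x := ⟨κ a, mM h a⟩)).2 (by rw [hκ a]; exact mem_im_of ha)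

include hs

theorem js : JS B3 ι where
  toEmb := emb h hf hκ
  le := leB _
  norm := by
    have k := emb h hf hκ
    have hJ := leB J0
    refine le_antisymm (fun l hl => ?_) (im_le.2 fun a ha => mem_normalizer_of_forall fun x hx => ?_)
    · obtain ⟨g, rfl⟩ := hs l
      have hP : IsSylowIn 3 (img κ J0) (qpre f (img ι J0)) := by
        refine sylow_of (h.im_pgroup hJ (Jx.S0_pgroup.to_le J0_le_S0)) (im_le_pre h hκ)
          fun x hx hn ⟨n, e⟩ => ?_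
        obtain ⟨a, e1, e2⟩ := f_norm h hf hκ (g := ⟨x, pre_le _ hx⟩) hn
        have h2 := (mem_pre (x := ⟨x, pre_le _ hx⟩)).1 hx
        rw [e1, k.mem_im_iff hJ (mem_B3 a)] at h2
        refine mem_of_coprime_pow (a := 2) (b := 3 ^ n) (Nat.Coprime.pow_right _ (by norm_num)) ?_
          (e ▸ one_mem _)
        rw [pow_two]
        exact e2 ▸ mem_im_of (mul_mem h2 h2)
      obtain ⟨n, hn, e⟩ := hP.frattini (norm_pre hl)
      obtain ⟨a, e1, -⟩ := f_norm h hf hκ (g := ⟨n, pre_le _ hn⟩ * g) e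
      rw [map_mul, ← eq_inv_mul_iff_mul_eq] at e1
      exact e1 ▸ mul_mem (inv_mem (im_mono hJ ((mem_pre (x := ⟨n, pre_le _ hn⟩)).1 hn))) (mem_im_of (mem_B3 a))
    · obtain ⟨b, hb, rfl⟩ := (k.mem_im hJ).1 hx
      rw [k.conj ha (hJ hb)]
      exact mem_im_of (J0_conj a hb)
  sig W hW hn := by
    have := sig h (coprime_pre hf (copE h) hW) (im_le.2 fun a ha =>
      norm_pre (x := ⟨κ a, mM h a⟩) (by rw [hκ a]; exact hn (mem_im_of ha)))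
    refine eq_bot_iff.2 fun w hw => ?_
    obtain ⟨x, rfl⟩ := hs w
    exact (hf x).2 (this (mem_pre.2 hw))

omit [Finite L] in
theorem lift {b : W3} (hb : b ∈ J0) {l : L} (hl : l ∈ Cx (ι b)) :
    ∃ c : MM κ R, (c : G) ∈ Cx (κ b) ∧ f c = l := by
  obtain ⟨w, rfl⟩ := hs l
  obtain ⟨v, hv, e⟩ := exists_fix (copE h) (k := 1) (y := κ b) (w := w) (by rw [pow_one, h.cube hb]) (mM h b) w.2
    ((cj_iff hf (g := ⟨κ b, mM h b⟩)).2 (by rw [hκ]; exact mem_Cx'.1 (Cx_comm.1 hl)))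
  exact ⟨⟨v, E_le hv⟩ * w, e, by rw [map_mul, (hf ⟨v, E_le hv⟩).2 hv, one_mul]⟩

theorem surj : Function.Surjective ι := by
  have k := js h hs hf hκ
  have := S9c.case_B3 k (fun l hl => by
      obtain ⟨c, hc, rfl⟩ := lift h hs hf hκ Jx.mems.2.2.2.1 hl
      obtain ⟨y, hy, a, e⟩ := h.cz _ hc
      rw [f_mul h hf hκ (h.R_le hy) e] at hl ⊢
      exact mem_im_of ((by decide +kernel : ∀ a : W3, a * z0 = z0 * a → a ∈ S3) a
        ((k.comm_iff (mem_B3 _) (mem_B3 _)).1 (mem_Cx.1 hl))))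
    fun l hl => by
      obtain ⟨c, hc, rfl⟩ := lift h hs hf hκ Jx.mems.2.2.1 hl
      obtain ⟨a, e, -⟩ := f_norm h hf hκ (h.ce hc)
      exact e ▸ k.mem_norm (mem_B3 a)
  intro l
  obtain ⟨a, -, e⟩ := k.exists_eq (g := l) (le_normalizer_of_normal (mem_top l))
  exact ⟨a, e⟩

end quo

/-- the projection of `M` onto the model -/
theorem exists_proj : ∃ ρ : MM κ R →* W3, (∀ x, ρ x = 1 ↔ (x : G) ∈ EE κ R) ∧ ∀ a, ρ ⟨κ a, mM h a⟩ = a := by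
  obtain ⟨L, _, _, f, hs, hf⟩ := exists_quo (K := MM κ R) (Z := EE κ R) le_rfl
  have k := emb h hf (ι := fun a => f ⟨κ a, mM h a⟩) fun _ => rfl
  let φ : W3 ≃* L := MulEquiv.ofBijective
    (MonoidHom.mk' (fun a => f ⟨κ a, mM h a⟩) fun a b => k.mul (mem_B3 a) (mem_B3 b))
    ⟨fun a b => k.inj (mem_B3 a) (mem_B3 b), surj h hs hf fun _ => rfl⟩
  exact ⟨φ.symm.toMonoidHom.comp f, fun x => (φ.symm.map_eq_one_iff).trans (hf x), φ.symm_apply_apply⟩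

variable {ρ : MM κ R →* W3} (hf : ∀ x, ρ x = 1 ↔ (x : G) ∈ EE κ R) (hρ : ∀ a, ρ ⟨κ a, mM h a⟩ = a)
include hf hρ

theorem dec (u : MM κ R) : (u : G) * (κ (ρ u))⁻¹ ∈ EE κ R :=
  (hf (u * ⟨κ (ρ u), mM h _⟩⁻¹)).1 (by rw [map_mul, map_inv, hρ, mul_inv_cancel])

theorem fix32 {u : MM κ R} (hu : ρ u ∈ [Rec3.r3, w0, i0]) {W : Subgroup G} (hW : W ≤ EE κ R)
    (hc : ∀ w ∈ W, Cj (zpowers r) u w w) : Nat.card W ≤ 32 := by
  obtain ⟨a, ha, bb, e⟩ := (by decide +kernel : ∀ b ∈ [Rec3.r3, w0, i0], ∃ a ∈ [Rec3.e1, Rec3.e3], TyE a ∧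
    b * b = 1 ∧ b * a * b⁻¹ = a⁻¹) _ hu |>.imp fun _ e => e.2
  refine h.card_fix ha (mem_B3 _) bb e hW fun w hw => ?_
  have hx := dec h hf hρ u
  have h1 := hc w hw
  obtain ⟨x, ex⟩ : ∃ x, x = (u : G) * (κ (ρ u))⁻¹ := ⟨_, rfl⟩
  have h2 : κ (ρ u) * w * (κ (ρ u))⁻¹ ∈ EE κ R := conj_mem_of_mem_normalizer (mM h _) (hW hw)
  rw [← ex] at hx
  rw [Cj, show (u : G) * w * (u : G)⁻¹ = x * (κ (ρ u) * w * (κ (ρ u))⁻¹) * x⁻¹ by rw [ex]; group] at h1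
  rw [Cj]
  generalize κ (ρ u) * w * (κ (ρ u))⁻¹ = v at h1 h2
  rcases h.comm_E hx h2 with e | e <;> rw [e] at h1
  · rwa [mul_inv_cancel_right] at h1
  · rwa [h.rc, mul_assoc r, mul_inv_cancel_right, mul_assoc, mul_mem_cancel_left (mem_zpowers r)] at h1

theorem norm_le : normalizer (qpre ρ S9c.T1 : Set G) ≤ MM κ R := fun g hg => by
  have hET := le_pre hf E_le S9c.T1
  have hUT : cj g (EE κ R) ≤ qpre ρ S9c.T1 := cj_le_iff.2 fun x hx => conj_mem_of_mem_normalizer hg (hET hx)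
  have hUM := hUT.trans (pre_le _)
  have hn : qpre ρ S9c.T1 ≤ normalizer (cj g (EE κ R) : Set G) := fun t ht => by
    rw [← cj_normalizer, mem_cj]
    have := pre_le _ (conj_mem_of_mem_normalizer (inv_mem hg) ht)
    rwa [inv_inv] at this
  have hc : ∀ x ∈ cj g (EE κ R), ∀ y ∈ cj g (EE κ R), Cj (zpowers r) x y y := fun x hx y hy => by
    rw [mem_cj] at hx hy
    have e1 : x * y * x⁻¹ * y⁻¹ = g * (g⁻¹ * x * g * (g⁻¹ * y * g) * (g⁻¹ * y * g * (g⁻¹ * x * g))⁻¹) * g⁻¹ := by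
      group
    rw [Cj, e1]
    rcases h.comm_E hx hy with e | e <;> rw [e]
    · rw [mul_inv_cancel, mul_one, mul_inv_cancel]; exact one_mem _
    · rw [h.rc, mul_inv_cancel_right, h.rc, mul_inv_cancel_right]; exact mem_zpowers r
  have hI : qim ρ (cj g (EE κ R)) ≤ S9c.T1 := fun _ ⟨x, hx, e⟩ => e ▸ mem_pre.1 (hUT hx)
  by_cases hE : cj g (EE κ R) ≤ EE κ R
  · exact mem_normalizer_of_forall fun x hx => hE (conj_mem_cj.2 hx)
  exfalso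
  obtain ⟨x, hx, hx'⟩ := SetLike.not_le_iff_exists.1 hE
  obtain ⟨u, hu, hd⟩ : ∃ u : MM κ R, (u : G) ∈ cj g (EE κ R) ∧ ρ u ∈ [Rec3.r3, w0, i0] := by
    rcases (by decide +kernel : ∀ b ∈ S9c.T1, b ≠ 1 → b ∈ [Rec3.r3, w0, i0] ∨
      ∃ c ∈ [t0, Rec3.r1], c ∈ S9c.T1 ∧ c * b * c⁻¹ * b⁻¹ ∈ [Rec3.r3, w0, i0]) _ (hI (mem_im (x := ⟨x, hUM hx⟩) hx))
      (fun e => hx' ((hf _).1 e)) with e | ⟨c, -, hc, e⟩
    · exact ⟨_, hx, e⟩
    · refine ⟨⟨κ c, mM h c⟩ * ⟨x, hUM hx⟩ * ⟨κ c, mM h c⟩⁻¹ * ⟨x, hUM hx⟩⁻¹, mul_mem (conj_mem_of_mem_normalizer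
        (hn ((mem_pre (x := ⟨κ c, mM h c⟩)).2 (by rwa [hρ]))) hx) (inv_mem hx), ?_⟩
      rwa [map_mul, map_mul, map_mul, map_inv, map_inv, hρ]
  have h1 := fix32 h hf hρ hd (W := EE κ R ⊓ cj g (EE κ R)) inf_le_left fun w hw => hc _ hu _ hw.2
  have h2 := card_mul_relIndex' (inf_le_right : EE κ R ⊓ cj g (EE κ R) ≤ _)
  rw [inf_relIndex_right, ← card_im hf hUM, card_cj, h.card_E] at h2
  have h3 := card_dvd_of_le hI
  have h4 : Nat.card (qim ρ (cj g (EE κ R))) ≠ 16 := fun e => by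
    have e1 := eq_of_le_of_card_ge hI (S9c.card_lsub.1.trans e.symm).le
    obtain ⟨p, hp, e2⟩ := exists_of_mem_im (e1.ge (show t0 ∈ S9c.T1 by decide +kernel))
    obtain ⟨q, hq, e3⟩ := exists_of_mem_im (e1.ge (show Rec3.r1 ∈ S9c.T1 by decide +kernel))
    have := (cj_iff hf).1 (zpowers_le.2 h.r_mem (hc _ hp _ hq))
    rw [e2, e3] at this
    exact absurd this (by decide +kernel)
  rw [S9c.card_lsub.1] at h3
  have h5 := Nat.le_of_dvd (by norm_num) h3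
  generalize Nat.card (qim ρ (cj g (EE κ R))) = n at h2 h3 h4 h5
  interval_cases n <;> omega

theorem sylow : IsSylowIn 2 (qpre ρ S9c.T1) ⊤ := by
  refine sylow_of (((IsPGroup.of_card (n := 4) S9c.card_lsub.1).comap_of_ker_isPGroup ρ ?_).map _) le_top
    fun g _ hg _ => ?_
  · rw [show ρ.ker = (EE κ R).subgroupOf (MM κ R) from Subgroup.ext hf]
    exact (IsPGroup.of_card h.card_E).of_equiv (subgroupOfEquivOfLe E_le).symm
  have k : ∀ b ∈ S9c.T1, ρ ⟨g, norm_le h hf hρ hg⟩ * b * (ρ ⟨g, norm_le h hf hρ hg⟩)⁻¹ ∈ S9c.T1 := fun b hb => by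
    rw [← hρ b, ← map_inv, ← map_mul, ← map_mul, ← mem_pre]
    exact conj_mem_of_mem_normalizer hg ((mem_pre (x := ⟨κ b, mM h b⟩)).2 (by rwa [hρ]))
  exact (mem_pre (x := ⟨g, norm_le h hf hρ hg⟩)).2 ((by decide +kernel : ∀ a : W3, a * i0 * a⁻¹ ∈ S9c.T1 →
    a * t0 * a⁻¹ ∈ S9c.T1 → a ∈ S9c.T1) _ (k _ (by decide +kernel)) (k _ (by decide +kernel)))

theorem center {x : G} (hx : x ∈ qpre ρ S9c.T1) (hc : ∀ y ∈ qpre ρ S9c.T1, y * x = x * y) : x = 1 ∨ x = r := by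
  have hET := le_pre hf E_le S9c.T1
  lift x to MM κ R using pre_le _ hx
  have k : ∀ b ∈ S9c.T1, b * ρ x = ρ x * b := fun b hb => by
    rw [← hρ b, ← map_mul, ← map_mul]
    exact congrArg ρ (Subtype.ext (hc _ ((mem_pre (x := ⟨κ b, mM h b⟩)).2 (by rwa [hρ]))))
  rcases (by decide +kernel : ∀ b ∈ S9c.T1, t0 * b = b * t0 → Rec3.r1 * b = b * Rec3.r1 →
    b = 1 ∨ b ∈ [Rec3.r3, w0, i0]) _ (mem_pre.1 hx) (k _ (by decide +kernel)) (k _ (by decide +kernel)) with e | e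
  · exact h.center_E ((hf x).1 e) fun y hy => hc y (hET hy)
  · have := fix32 h hf hρ e le_rfl fun w hw => by
      rw [Cj, ← hc w (hET hw), mul_inv_cancel_right, mul_inv_cancel]; exact one_mem _
    rw [h.card_E] at this
    omega

omit hf hρ in
theorem inE {u : G} (hu : u ∈ EE κ R) : ∃ m, (∃ a ∈ S0, a ∉ J0 ∧ a ^ 3 = 1 ∧ m * u * m⁻¹ ∈ Cx (κ a)) ∨
    m * u * m⁻¹ ∈ R ⊔ cj (κ w0) R := by
  obtain ⟨a, ha, a3, a1, e⟩ := h.exists_three hu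
  obtain ⟨s, hs⟩ := (by decide +kernel : ∀ a : W3, a * a * a = 1 → a ≠ 1 → ∃ s : W48,
    (lin s * a * (lin s)⁻¹ ∈ S0 ∧ lin s * a * (lin s)⁻¹ ∉ J0) ∨ TyE (lin s * a * (lin s)⁻¹) ∨
      lin s * a * (lin s)⁻¹ = z0 ∨ lin s * a * (lin s)⁻¹ = y1) a (by rw [← a3, pow_succ, pow_two]) a1
  generalize lin s = b at hs
  have h1 : κ b * u * (κ b)⁻¹ ∈ EE κ R := conj_mem_of_mem_normalizer (mM h b) hu
  have h2 : κ b * u * (κ b)⁻¹ ∈ Cx (κ (b * a * b⁻¹)) := by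
    rw [← h.conj (mem_B3 b) ha, mem_Cx, conj_mul, conj_mul, e]
  have h3 : Cj (zpowers r) (κ (b * a * b⁻¹)) (κ b * u * (κ b)⁻¹) (κ b * u * (κ b)⁻¹) := by
    rw [Cj, ← mem_Cx.1 h2, mul_inv_cancel_right, mul_inv_cancel]; exact one_mem _
  refine ⟨κ b, ?_⟩
  rcases hs with ⟨e1, e2⟩ | e1 | e1 | e1
  · exact .inl ⟨_, e1, e2, by rw [conj_pow, a3, mul_one, mul_inv_cancel], h2⟩
  · rcases h.fpf_e e1 h1 h3 with e2 | e2 <;> rw [e2]
    exacts [.inr (one_mem _), .inr (mem_sup_left h.mem)]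
  · exact .inr (mem_sup_left (h.cent_z_E h1 (e1 ▸ h3)))
  · exact .inr (h.cent_y_E h1 (e1 ▸ h2))

end Me

open Me

theorem HB.M_eq (h : HB κ r R) : MM κ R = EE κ R ⊔ img κ B3 := by
  obtain ⟨ρ, hf, hρ⟩ := exists_proj h
  refine le_antisymm (fun g hg => ?_) (sup_le E_le (im_le.2 fun a _ => mM h a))
  exact (mul_mem_cancel_right (inv_mem (mem_sup_right (mem_im_of (mem_B3 _))))).1
    (mem_sup_left (dec h hf hρ ⟨g, hg⟩))

theorem HB.syl (h : HB κ r R) : ∃ T T0 : Subgroup G, IsSylowIn 2 T ⊤ ∧ T0 ≤ T ∧ T0.relIndex T = 2 ∧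
    (∀ x ∈ T, (∀ y ∈ T, y * x = x * y) → x = 1 ∨ x = r) ∧
    ∀ u ∈ T0, u * u = 1 → ∃ m, (∃ a ∈ S0, a ∉ J0 ∧ a ^ 3 = 1 ∧ m * u * m⁻¹ ∈ Cx (κ a)) ∨
      (∃ a ∈ [Rec3.r1, w0], m * u * m⁻¹ = κ a ∨ m * u * m⁻¹ = κ a * r) ∨ m * u * m⁻¹ ∈ R ⊔ cj (κ w0) R := by
  obtain ⟨ρ, hf, hρ⟩ := exists_proj h
  have MT : S9c.M1 ≤ S9c.T1 := show ∀ a ∈ S9c.M1, a ∈ S9c.T1 by decide +kernel
  refine ⟨qpre ρ S9c.T1, qpre ρ S9c.M1, sylow h hf hρ, map_mono (comap_mono MT), ?_, fun _ => center h hf hρ,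
    fun u hu uu => ?_⟩
  · rw [qpre, qpre, relIndex_map_map_of_injective _ _ (subtype_injective _), relIndex_comap,
      map_comap_eq_self_of_surjective fun a => ⟨_, hρ a⟩]
    have := card_mul_relIndex' MT
    rw [S9c.card_lsub.1, S9c.card_lsub.2.1] at this
    omega
  lift u to MM κ R using pre_le _ hu
  have hx := dec h hf hρ u
  by_cases b1 : ρ u = 1
  · exact (inE h ((hf u).1 b1)).imp fun _ => Or.imp_right .inr
  obtain ⟨a, -, ha, bb, e, hs⟩ := (by decide +kernel : ∀ b ∈ S9c.M1, b ≠ 1 → ∃ a ∈ [Rec3.e1, Rec3.e2, Rec3.e3], TyE a ∧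
    b * b = 1 ∧ b * a * b⁻¹ = a⁻¹ ∧ (b = i0 ∨ ∃ s ∈ [1, σ0, σ0⁻¹], s * b * s⁻¹ ∈ [Rec3.r1, w0])) _ (mem_pre.1 hu) b1
  obtain ⟨y, -, e1⟩ := h.conj_out ha (mem_B3 _) bb e hx (by rw [inv_mul_cancel_right, uu]; exact one_mem _)
  rw [inv_mul_cancel_right] at e1
  rcases hs with e2 | ⟨s, -, e2⟩
  · have h1 : κ i0 ∈ Cx (κ σ0) := mem_Cx.2 ((h.comm_iff (mem_B3 _) (mem_B3 _)).2 (by decide +kernel))
    refine ⟨y, .inl ⟨σ0, Jx.mems.2.2.2.2.2.2.1, Jx.mems.2.2.2.2.2.2.2, by decide +kernel, ?_⟩⟩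
    rcases e1 with e1 | e1 <;> rw [e1, e2]
    exacts [h1, mul_mem h1 (mem_Cx.2 (h.rc _).symm)]
  · refine ⟨κ s * y, .inr (.inl ⟨_, e2, ?_⟩)⟩
    rw [← h.conj (mem_B3 _) (mem_B3 _), show κ s * y * u * (κ s * y)⁻¹ = κ s * (y * u * y⁻¹) * (κ s)⁻¹ by group]
    refine e1.imp (fun e1 => by rw [e1]) fun e1 => ?_
    rw [e1, mul_assoc _ _ r, h.rc (κ s)⁻¹]
    group

end CfsgLib.Rec3C
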