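import Cfsg.Agent.Lib.Rec3C.O8Ce
import Cfsg.Agent.Lib.Rec3C.Rd
import Cfsg.Agent.Lib.Rec3C.Ho
import Cfsg.Agent.S3345

/-! O8FIN: the case `Γ = WP43` (plans/REC3C.md) -/

set_option autoImplicit false
set_option maxRecDepth 100000
set_option maxHeartbeats 400000

namespace CfsgLib.Rec3C

open Subgroup Cfsg CfsgLib.Tech CfsgLib.PComp CfsgLib.W2 CfsgLib.Rec3
open CfsgLib.Rec3B (V81 EQ Q8 KC EE MM Ri TyE zi gi neg)
open CfsgLib.U43 (SL)
open V4

variable {G : Type*} [Group G] [Finite G] {Γ : Subgroup GO} {ι : N4 → G}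

theorem O8.kd (h : O8 WP43 ι) : ∃ κ R, KD WP43 ι κ R := by
  have := h.tw43.he_of (by decide +kernel) (RQ4_tw.2 h.rq) (by decide +kernel)
  rw [tw_nv, tw_nv, th_vals.2.1, th_vals.2.2.2.1, NJG, h.toO4.tw_J.1] at this
  exact h.toO4.exists_KD r4_P h.rq this

theorem KD.norm_of (h : O4 Γ ι) (hr : r4 ∈ Γ) {κ : W3 → Cx (ι (nl r4))} {R : Subgroup (Cx (ι (nl r4)))} (k : KD Γ ι κ R)
    {g : Cx (ι (nl r4))} (hg : (g : G) ∈ NJG ι) : g ∈ normalizer (img κ J0 : Set (Cx (ι (nl r4)))) := by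
  have hJ : J0 ≤ A3 Γ := fun a ha => mem_A3.2 ((by decide +kernel : ∀ a ∈ J0, e48 (pr a) = 1) a ha ▸ one_mem _)
  obtain ⟨a, ha, e⟩ := h.exists_eq hg
  refine mem_normalizer_of_forall fun x hx => ?_
  obtain ⟨b, hb, rfl⟩ := (k.toEmb.mem_im hJ).1 hx
  have eb : emb3 b = nv (e27 (vp b)) := (by decide +kernel : ∀ b ∈ J0, emb3 b = nv (e27 (vp b))) b hb
  have e1 : ((g * κ b * g⁻¹ : Cx (ι (nl r4))) : G) = ι (nv (act a.w (e27 (vp b)))) := by
    rw [coe_mul, coe_mul, coe_inv, k.val b (hJ hb), eb, ← e, h.conj_ev ha]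
  have c := (g * κ b * g⁻¹).2
  rw [e1, mem_Cx, eq_comm, ← mem_Cx, h.cent_iff (nl_mem hr)] at c
  obtain ⟨u, hu, eu⟩ := (by decide +kernel : ∀ v, act r4 v = v → ∃ u : V27, vec u ∈ J0 ∧ emb3 (vec u) = nv v) _ c
  exact (k.toEmb.mem_im hJ).2 ⟨_, hu, Subtype.ext (by rw [e1, k.val _ (hJ hu), eu])⟩

theorem O8.hd (h : O8 WP43 ι) {G0 : Subgroup G} (k : G0D ι G0) {κ : W3 → Cx (ι (nl r4))} {R : Subgroup (Cx (ι (nl r4)))}
    (d : KD WP43 ι κ R) : HD κ (selfC _) R (G0.subgroupOf _) := by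
  have := k.nrm
  have v : ∀ a ∈ A24, (κ a : G) = ι (emb3 a) := A3_vals.1 ▸ d.val
  have c : ∀ {g : Cx (ι (nl r4))} {a}, a ∈ A24 → (g ∈ Cx (κ a) ↔ (g : G) ∈ Cx (ι (emb3 a))) := fun ha => by
    rw [mem_Cx, mem_Cx, Subtype.ext_iff, coe_mul, coe_mul, v _ ha]
  refine ⟨A3_vals.1 ▸ d.toKC1, inferInstance, fun g hg => k.m3 (g := g.1) (by rwa [orderOf_coe]), fun a ha => ?_, fun g hg => ?_,
    fun g hg => ?_⟩
  · rw [mem_subgroupOf, v a ha, k.mem _ (show a ∈ A3 WP43 from A3_vals.1 ▸ ha), ← A3_vals.2.2.2.2.1]; rfl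
  · obtain ⟨w, hw, e⟩ := om_trans (u := x3) (v := x4) (by decide +kernel) (by decide +kernel) (by decide +kernel)
    have hn := h.toO4.mem_norm (nl_mem (h.om hw))
    have h1 := (c (by decide +kernel)).1 hg.2
    rw [emb3_vals.2.2.1] at h1
    have h2 := h.ce0 k (x := ι (nl w) * g * (ι (nl w))⁻¹) ⟨k.nrm.conj_mem _ hg.1 _, by
      rw [← e, ← show _ = ι (nv (act w x3)) from h.toO4.conj_ev (nl_mem (h.om hw)) x3]
      exact mem_Cx.2 (by rw [conj_mul, conj_mul, mem_Cx.1 h1])⟩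
    exact d.norm_of h.toO4 r4_P (by simpa [mul_assoc] using mul_mem (mul_mem (inv_mem hn) h2) hn)
  · have h1 := (c (by decide +kernel)).1 hg.2
    rw [c (by decide +kernel), emb3_vals.2.2.2.2.1]
    rw [emb3_vals.2.2.2.1] at h1
    obtain ⟨u, hu, a, ha, e⟩ := h.nz (g := g) (mem_normalizer_of_forall fun x hx => by
      obtain ⟨n, rfl⟩ := hx
      exact ⟨n, by rw [← conj_zpow, mem_Cx'.1 h1]⟩)
    obtain ⟨n, l, hl, el⟩ := h.tw43.cent_split (by decide +kernel) (g := u) (by rw [tw_nv, th_vals.2.1]; exact hu.2)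
    have h2 : u ∈ G0 := el ▸ mul_mem (pow_mem (tw_nv ι x4 ▸ k.nv_mem _) n) ((closure_le G0).2 (fun x hx => k.m3 hx.2) hl)
    have h3 : ι a ∈ G0 := (mul_mem_cancel_left h2).1 (e ▸ hg.1)
    have h4 : ι a ∈ Cx (ι (nv zz)) := (mul_mem_cancel_left (mem_inf.1 hu).1).1 (e ▸ h1)
    exact e ▸ mul_mem (mem_inf.1 hu).2 ((h.toO4.cent_iff ha _).2 ((by decide +kernel : ∀ g : GO, act g zz = zz → g ∈ WP4 → act g yy = yy) _
      ((h.toO4.cent_iff ha _).1 h4) ((k.mem a ha).1 h3)))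

theorem O8.r_mem (h : O8 WP43 ι) {M : Subgroup G} (hM : M.Normal) (h1 : M ≠ ⊥) : ι (nl r4) ∈ M := by
  obtain ⟨κ, R, d⟩ := h.kd
  have h3 : (κ e3 : G) ∈ M := by
    rw [d.val _ (A3_vals.1 ▸ by decide +kernel), emb3_vals.2.2.1]
    exact h.toO4.J_le_of_normal hM h1 (mem_gim_of (nv_JV _))
  obtain ⟨y, hy, n⟩ : ∃ y ∈ R, ¬ (y = 1 ∨ y = selfC _) := by
    by_contra c
    simp only [not_exists, not_and, not_not] at c
    have := LargeExtra.card_le_four (P := R) (c := 1) (d := 1) fun x hx => (c x hx).imp_right .inl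
    rw [d.card] at this
    omega
  have hn : κ e3 ∈ normalizer (R : Set _) := d.nR (mem_normalizer_of_forall fun x hx => by
    obtain ⟨n, rfl⟩ := hx
    exact ⟨n, by rw [← conj_zpow, d.toEmb.conj_eq (A3_vals.1 ▸ by decide +kernel) (A3_vals.1 ▸ by decide +kernel)
      (by decide +kernel : e3 * z0 * e3⁻¹ = z0)]⟩)
  have u1 : κ e3 * y * (κ e3)⁻¹ * y⁻¹ ∈ R := mul_mem (conj_mem_of_mem_normalizer hn hy) (inv_mem hy)
  have u2 : ((κ e3 * y * (κ e3)⁻¹ * y⁻¹ : Cx _) : G) ∈ M := by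
    rw [mul_assoc, mul_assoc, ← mul_assoc y]
    exact mul_mem h3 (hM.conj_mem _ (inv_mem h3) y)
  rcases d.sq _ u1 with e | e | e
  · exact absurd (d.Re y hy (by rwa [mul_inv_eq_one, mul_inv_eq_iff_eq_mul] at e)) n
  · rwa [e] at u2
  · have := mul_mem u2 u2
    rwa [← coe_mul, e] at this

/-- `G0` is a minimal normal subgroup -/
theorem O8.min (h : O8 WP43 ι) {G0 : Subgroup G} (k : G0D ι G0) {M : Subgroup G} (hM : M.Normal) (h1 : M ≠ ⊥) (h2 : M ≤ G0) :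
    M = G0 := by
  have : Fact (Nat.Prime 3) := ⟨Nat.prime_three⟩
  have hJ := h.toO4.J_le_of_normal hM h1
  have hw : ∀ w ∈ WP4, ι (nl w) ∈ M := fun w hw => by
    have := sp_WP4 (Δ := ((M.comap h.hom).map (NG WP43).subtype).comap nl) (fun w hw =>
      ⟨⟨_, nl_mem (mul_mem (mul_mem (h.om hw) r4_P) (inv_mem (h.om hw)))⟩, by
        have := hM.conj_mem _ (h.r_mem hM h1) (ι (nl w))
        rwa [h.conj (nl_mem (h.om hw)) (nl_mem r4_P), ← map_mul, ← map_inv, ← map_mul] at this, rfl⟩) hw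
    obtain ⟨⟨_, _⟩, m, rfl⟩ := this
    exact m
  obtain ⟨P, hP⟩ := ((h.im_pgroup (JV_le _) (IsPGroup.of_card (p := 3) (n := 4) card_JV)).comap_of_injective M.subtype
    M.subtype_injective).exists_le_sylow
  have hN := h.toO4.norm_le (P := P.1.map M.subtype) (P.2.map _) fun x hx => ⟨⟨x, hJ hx⟩, hP hx, rfl⟩
  refine le_antisymm h2 fun g hg => ?_
  obtain ⟨n, hn, m, hm, rfl⟩ := mem_sup_of_normal_right.1 (P.normalizer_sup_eq_top.ge (mem_top g))
  obtain ⟨a, ha, rfl⟩ := h.toO4.exists_eq (hN hn)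
  refine mul_mem ?_ hm
  rw [← nv_nl a, h.mul (V4.nv_mem _ _) (nl_mem (g := a.w) ha)]
  exact mul_mem (hJ (mem_gim_of (nv_JV _))) (hw _ ((k.mem a ha).1 ((mul_mem_cancel_right (h2 hm)).1 hg)))

theorem O8.omega (h : O8 WP43 ι) {G0 : Subgroup G} (k : G0D ι G0) :
    Nonempty (G0 ≃* Cfsg.Omega (ZMod 2) (Cfsg.quadFormPlus 4 (ZMod 2))) := by
  have := k.nrm
  obtain ⟨κ, R, d⟩ := h.kd
  have o2 : orderOf (ι (nl r4)) = 2 := h.ord_two (nl_mem r4_P) (by decide +kernel) (by decide +kernel)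
  have o3 : orderOf (ι (nv x4)) = 3 := h.ord_three (V4.nv_mem _ _) (by decide +kernel) (by decide +kernel)
  have hr : ι (nl r4) ∈ G0 := k.m3 (by rw [o2]; decide)
  let t : G0 := ⟨_, hr⟩
  have ot : orderOf t = 2 := by rw [← orderOf_coe, o2]
  let e : centralizer ({t} : Set G0) ≃* G0.subgroupOf (Cx (ι (nl r4))) :=
    ⟨⟨fun x => ⟨⟨x.1, mem_Cx.2 (Subtype.ext_iff.1 (mem_Cx.1 x.2))⟩, x.1.2⟩,
      fun x => ⟨⟨x.1, x.2⟩, mem_Cx.2 (Subtype.ext (mem_Cx.1 x.1.2))⟩, fun _ => rfl, fun _ => rfl⟩, fun _ _ => rfl⟩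
  obtain ⟨a1, a2, ⟨a3⟩, a4⟩ := (h.hd k d).main e
  have top : ∀ M : Subgroup G0, M.Characteristic → M ≠ ⊥ → M = ⊤ := fun M _ n => map_injective G0.subtype_injective (by
    rw [h.min k (Core.normal_map_subtype_of_characteristic M) (fun c => n ((map_eq_bot_iff_of_injective _ G0.subtype_injective).1 c))
      (map_subtype_le _), ← MonoidHom.range_eq_map, range_subtype])
  refine (Cfsg.Agent.S3345.result (top _ (Transfer.pResidual_characteristic _ _) fun c => ?_) t ot _ rfl a1 a2 a3 fun g hg => ?_).resolve_left fun c => ?_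
  · have := Transfer.mem_pResidual_of_coprime (p := 2) (g := (⟨_, k.nv_mem x4⟩ : G0)) (by rw [← orderOf_coe, o3]; decide)
    rw [c, mem_bot, ← orderOf_eq_one_iff, ← orderOf_coe, o3] at this
    omega
  · have t1 : t ∈ (pCore 2 (centralizer ({t} : Set G0))).map (centralizer ({t} : Set G0)).subtype :=
      Core.le_map_pCore (zpowers_le.2 (mem_Cx.2 rfl)) (fun x hx => mem_normalizer_of_forall fun y hy => by
        obtain ⟨n, rfl⟩ := hy
        exact ⟨n, by rw [← conj_zpow, mem_Cx'.1 hx]⟩) (IsPGroup.of_card (n := 1) (by rw [Nat.card_zpowers, ot, pow_one])) (mem_zpowers t)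
    exact ⟨⟨g, mem_Cx.2 (hg t t1).symm⟩, a4 fun y hy => Subtype.ext (hg _ ⟨y, hy, rfl⟩), rfl⟩
  · by_cases o : oddCore G0 = ⊥
    · have := c ⟨_, k.nv_mem x4⟩
      rw [o, mem_bot, mul_inv_eq_one, mul_inv_eq_iff_eq_mul, Subtype.ext_iff] at this
      exact absurd ((h.toO4.cent_iff (nl_mem r4_P) x4).1 (mem_Cx.2 this.symm)) (by decide +kernel)
    · have h3 := Core.odd_card_oddCore G0
      rw [show pPrimeCore 2 G0 = ⊤ from top _ (Core.pPrimeCore_characteristic _ _) o, card_top] at h3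
      exact absurd (h3.of_dvd_nat (ot ▸ orderOf_dvd_natCard t)) (by decide)

/-- `G0` is generated by the elements of order prime to three -/
theorem O8.G0_eq (h : O8 WP43 ι) {G0 : Subgroup G} (k : G0D ι G0) : G0 = Subgroup.closure {g : G | (orderOf g).Coprime 3} := by
  have o2 : orderOf (ι (nl r4)) = 2 := h.ord_two (nl_mem r4_P) (by decide +kernel) (by decide +kernel)
  refine (h.min k (M := Subgroup.closure {g : G | (orderOf g).Coprime 3}) ⟨fun x hx g =>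
    (closure_le ((Subgroup.closure _).comap (MulAut.conj g).toMonoidHom)).2
    (fun y hy => subset_closure ?_) hx⟩ (fun c => ?_) ((closure_le _).2 fun x hx => k.m3 hx)).symm
  · rw [Set.mem_setOf, orderOf_injective (MulAut.conj g).toMonoidHom (MulAut.conj g).injective y]; exact hy
  · have : ι (nl r4) ∈ Subgroup.closure {g : G | (orderOf g).Coprime 3} := subset_closure (by rw [Set.mem_setOf, o2]; decide)
    rw [c, mem_bot, ← orderOf_eq_one_iff, o2] at this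
    omega

theorem O8.cent_G0 (h : O4 Γ ι) {N : Subgroup G} (hN : ∀ a ∈ NG Q32, ι a ∈ N) : centralizer (N : Set G) = ⊥ := by
  refine eq_bot_iff.2 fun g hg => ?_
  obtain ⟨v, rfl⟩ := h.mem_J.1 (h.cent_J fun v => mem_Cx.2 (hg _ (hN _ (V4.nv_mem _ v))).symm)
  have m : m1 ∈ Q32 := by decide +kernel
  have := (h.cent_iff (nl_mem (h.om (Q32_le m))) v).1 (mem_Cx.2 (hg _ (hN _ (nl_mem m))))
  rw [(by decide +kernel : ∀ v, act m1 v = v → v = 1) v this, map_one, h.one]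
  exact one_mem _

end CfsgLib.Rec3C
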