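import Cfsg.Agent.Lib.Rec3C.Lx
import Cfsg.Agent.Lib.Transfer.Focal

/-! O8G0: fusion of `3`-elements, the subgroup of index three (plans/REC3C.md) -/

set_option autoImplicit false
set_option maxRecDepth 100000
set_option maxHeartbeats 400000
set_option Elab.async false
set_option linter.unusedSectionVars false

namespace CfsgLib.Rec3C

open Subgroup Cfsg CfsgLib.Tech CfsgLib.PComp CfsgLib.W2 CfsgLib.Rec3
open CfsgLib.Rec3B (V81 EQ Q8 KC EE MM Ri TyE zi gi neg)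
open CfsgLib.U43 (SL)
open V4

variable {G : Type*} [Group G] [Finite G] {Γ : Subgroup GO} {ι : N4 → G}

theorem sp_WP4 {Δ : Subgroup GO} (h : ∀ w ∈ Om, w * r4 * w⁻¹ ∈ Δ) : WP4 ≤ Δ := fun g hg => by
  have k : CosetEnum.force (TG.sp ([TG.o 576, TG.o 582, TG.o 581, TG.o 768] : List GO) 13)
    (fun S => decide (∀ g : GO, g ∈ WP4 → bit S g.v = true)) = true := by decide +kernel
  rw [CosetEnum.force_eq, decide_eq_true_eq] at k
  refine TG.mem_of_sp (fun x hx => ?_) (k g hg)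
  obtain ⟨w, -, hw, rfl⟩ := (by decide +kernel : ∀ x ∈ ([TG.o 576, TG.o 582, TG.o 581, TG.o 768] : List GO),
    ∃ w ∈ ([TG.o 0, TG.o 8, TG.o 16, TG.o 96] : List GO), w ∈ Om ∧ w * r4 * w⁻¹ = x) x hx
  exact h w hw

theorem r4_P : r4 ∈ WP43 := by decide +kernel

theorem WP4_le : WP4 ≤ WP43 := show ∀ g ∈ WP4, g ∈ WP43 by decide +kernel

theorem WP43_le : WP43 ≤ WF4 := show ∀ g ∈ WP43, g ∈ WF4 by decide +kernel

omit [Finite G] in
theorem mem_of_index {G0 : Subgroup G} (hn : G0.Normal) (hi : G0.index = 3) {g : G} (hg : (orderOf g).Coprime 3) : g ∈ G0 := by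
  rw [← QuotientGroup.eq_one_iff, ← orderOf_eq_one_iff]
  exact Nat.eq_one_of_dvd_coprimes hg (orderOf_map_dvd (QuotientGroup.mk' G0) g) (hi ▸ orderOf_dvd_natCard (g : G ⧸ G0))

omit [Finite G] in
theorem G0D.m3 {G0 : Subgroup G} (k : G0D ι G0) {g : G} (hg : (orderOf g).Coprime 3) : g ∈ G0 := mem_of_index k.nrm k.idx hg

omit [Finite G] in
theorem G0D.nv_mem {G0 : Subgroup G} (k : G0D ι G0) (v : V81) : ι (nv v) ∈ G0 := (k.mem _ (V4.nv_mem _ v)).2 (one_mem _)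

/-- `J ⟨β⟩` -/
noncomputable def PV : Subgroup N4 := SV ⊓ centralizer {nv yy}

theorem mem_PV {a : N4} : a ∈ PV ↔ a ∈ SV ∧ act a.w yy = yy := and_congr_right fun _ => mem_Cx.trans comm_nv

theorem XX_zz : ∀ g ∈ XX, act g zz = zz := by decide +kernel

theorem card_PV : Nat.card PV = 243 := by
  have : PV = NG (XX ⊓ WP4) := by
    ext a
    rw [mem_PV]
    exact and_congr_right ((by decide +kernel : ∀ g ∈ XX, act g yy = yy ↔ g ∈ WP4) _)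
  rw [this, card_NG, TG.card_subgroup _ (fun g => g ∈ XX ∧ g ∈ WP4) fun _ => Iff.rfl]
  decide +kernel

theorem conj_XX {w g : GO} (hw : w ∈ Om) (hg : g ∈ XX) (e : w * g * w⁻¹ ∈ XX) : w * g * w⁻¹ = g := by
  refine (by decide +kernel : ∀ g ∈ XX, ∀ g' ∈ XX, fr g = fr g' → g = g') _ e _ hg ?_
  rw [map_mul, map_mul, map_inv]
  exact (by decide +kernel : ∀ s : D72, bit 0x1ff s.v = true → ∀ t : D72, bit 0x1ff t.v = true → s * t * s⁻¹ = t) _ hw _ (XX_le hg)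

theorem O4.ord_z (h : O4 Γ ι) : orderOf (ι (nv zz)) = 3 := h.ord_three (nv_mem _ _) (by decide +kernel) (by decide +kernel)

theorem O4.norm_z (h : O4 Γ ι) {g : G} (e : g * ι (nv zz) * g⁻¹ = ι (nv zz) ∨ g * ι (nv zz) * g⁻¹ = (ι (nv zz))⁻¹) :
    g ∈ normalizer (zpowers (ι (nv zz)) : Set G) := mem_normalizer_of_forall fun x hx => by
  obtain ⟨n, rfl⟩ := hx
  rw [← conj_zpow]
  rcases e with e | e <;> rw [e]
  exacts [zpow_mem (mem_zpowers _) n, zpow_mem (inv_mem (mem_zpowers _)) n]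

/-- `[D, D] = ⟨z⟩` -/
theorem O4.norm_of_D (h : O4 Γ ι) {b : N4} (hb : b ∈ QV) (hy : act b.w yy ≠ yy) {g : G}
    (e : ∀ d ∈ QG ι ⊓ Cx (ι b), g * d * g⁻¹ ∈ QG ι) : g ∈ normalizer (zpowers (ι (nv zz)) : Set G) := by
  obtain ⟨u, u1, u2, u3, v, v1, v2⟩ := (by decide +kernel : ∀ w ∈ XX, act w yy ≠ yy → ∀ v, Perp v zz → ∃ u, Perp u zz ∧ act w u = u ∧
    act be u * u⁻¹ = zz ∧ ∃ v', Perp v' zz ∧ v' * act be v = v * act w v') _ hb.2 hy _ hb.1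
  have m : ∀ {a}, a ∈ QV → a ∈ NG Γ := fun ha => h.SV_le (V4.QV_le ha)
  have a1 : nv u ∈ QV := ⟨u1, XX.one_mem⟩
  have a2 : (⟨v, be⟩ : N4) ∈ QV := ⟨v1, show be ∈ XX by decide +kernel⟩
  have b1 := e _ ⟨mem_gim_of a1, mem_Cx.2 ((h.comm_iff (m a1) (m hb)).2 (comm_nv.2 u2).symm)⟩
  have b2 := e _ ⟨mem_gim_of a2, mem_Cx.2 ((h.comm_iff (m a2) (m hb)).2 (N4.ext v2
    ((by decide +kernel : ∀ w ∈ XX, be * w = w * be) _ hb.2)))⟩
  have c := h.xq.cmt _ b2 _ b1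
  rw [show ∀ p q : G, g * p * g⁻¹ * (g * q * g⁻¹) * (g * p * g⁻¹)⁻¹ * (g * q * g⁻¹)⁻¹ = g * (p * q * p⁻¹ * q⁻¹) * g⁻¹ from
    fun p q => by group, h.conj_ev (m a2), ← h.inv (m a1), h.mul_eq (nv_mem _ _) (inv_mem (m a1)) (c := nv zz)
      (by rw [← map_inv, ← map_mul]; exact congrArg nv u3)] at c
  exact h.norm_z ((zp3_cases h.xq.z3 c).resolve_left fun k => h.xq.z1 (by simpa using k))

namespace O8

theorem r4_mem (h : O8 Γ ι) : r4 ∈ Γ := by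
  rcases h.hΓ with rfl | rfl
  exacts [r4_P, WP43_le r4_P]

theorem P_le (h : O8 Γ ι) : WP43 ≤ Γ := by
  rcases h.hΓ with rfl | rfl
  exacts [le_rfl, WP43_le]

theorem le_F (h : O8 Γ ι) : Γ ≤ WF4 := by
  rcases h.hΓ with rfl | rfl
  exacts [WP43_le, le_rfl]

theorem t12_tw (h : O8 Γ ι) : t12 ∈ twG Γ := mem_twG.2 (th_vals.2.2.2.2.1 ▸ h.r4_mem)

theorem tw43 (h : O8 WP43 ι) : O4 WD43 (tw ι) := twG_vals.1 ▸ h.toO4.twist

theorem norm_K (h : O8 Γ ι) {g : G} (hg : g ∈ normalizer (zpowers (ι (nv zz)) : Set G)) :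
    g ∈ normalizer ((Cx (ι (nv zz)) ⊓ Cx (ι (nv yy)) : Subgroup G) : Set G) := mem_normalizer_of_forall fun k hk => by
  have c : ∀ x, g⁻¹ * x * g⁻¹⁻¹ ∈ closure {ι (nv zz), ι (nv yy)} → g * k * g⁻¹ ∈ Cx x := fun x hx => by
    have : g⁻¹ * x * g⁻¹⁻¹ ∈ Cx k := (closure_le (Cx k)).2 (by
      rintro _ (rfl | rfl)
      exacts [mem_Cx.2 (mem_Cx.1 hk.1).symm, mem_Cx.2 (mem_Cx.1 hk.2).symm]) hx
    have := (show Commute (g⁻¹ * x * g⁻¹⁻¹) k from mem_Cx.1 this).conj g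
    exact mem_Cx.2 (by simpa [mul_assoc] using this.eq.symm)
  exact ⟨c _ ((zpowers_le.2 (subset_closure (by simp))) (conj_mem_of_mem_normalizer (inv_mem hg) (mem_zpowers _))),
    c _ (h.ny _ (inv_mem hg))⟩

theorem nz (h : O8 Γ ι) {g : G} (hg : g ∈ normalizer (zpowers (ι (nv zz)) : Set G)) :
    ∃ k ∈ Cx (ι (nv zz)) ⊓ Cx (ι (nv yy)), ∃ a ∈ NG Γ, g = k * ι a := by
  have : Fact (Nat.Prime 3) := ⟨Nat.prime_three⟩
  have hJ : JV ≤ PV := fun a ha => mem_PV.2 ⟨JV_le _ ha, by rw [mem_JV.1 ha, act_one]⟩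
  have hS := h.toO4.sylow_of_model (K := Cx (ι (nv zz)) ⊓ Cx (ι (nv yy))) hJ inf_le_left (gim_le.2 fun a ha =>
    ⟨(h.toO4.cent_iff (h.toO4.SV_le ha.1) _).2 (XX_zz _ ha.1), (h.toO4.cent_iff (h.toO4.SV_le ha.1) _).2 (mem_PV.1 ha).2⟩)
    fun a ha k e _ => mem_PV.2 ⟨(by decide +kernel : ∀ g : GO, act g zz = zz → g ^ 3 = 1 → g ∈ XX) _
      ((h.toO4.cent_iff ha _).1 k.1) e, (h.toO4.cent_iff ha _).1 k.2⟩
  obtain ⟨n, hn, e⟩ := hS.frattini (h.norm_K hg)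
  obtain ⟨a, ha, e⟩ := h.toO4.exists_eq (h.toO4.norm_le hS.pgroup (gim_mono hJ) e)
  exact ⟨n⁻¹, inv_mem hn, a, ha, by rw [e]; group⟩

theorem conjJ (h : O8 Γ ι) {a : N4} (ha : a ∈ SV) (hy : act a.w yy = yy) (h3 : a ^ 3 = 1) :
    ∃ l ∈ Lx (ι (nv yy)) ⊓ Cx (ι (nv zz)), l * ι a * l⁻¹ ∈ JG ι := by
  obtain ⟨k1, k2⟩ := (by decide +kernel : ∀ w ∈ XX, act w yy = yy → th⁻¹ * w * th⁻¹⁻¹ ∈ XX ∧ act (th⁻¹ * w * th⁻¹⁻¹) x4 = x4) _ ha hy
  have := h.toO4.twist.conj_J h.t12_tw (RQ4_tw.2 h.rq) (a := (nl th)⁻¹ * a * (nl th)⁻¹⁻¹) k1 k2 (by rw [conj_pow, h3]; simp)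
  rwa [tw_nv, tw_nv, th_vals.2.1, th_vals.1, h.toO4.tw_J.1, tw, show nl th * ((nl th)⁻¹ * a * (nl th)⁻¹⁻¹) * (nl th)⁻¹ = a by group] at this

theorem sylow_D (h : O8 Γ ι) {b : N4} (hb : b ∈ QV) (hy : act b.w yy ≠ yy) : IsSylowIn 3 (QG ι ⊓ Cx (ι b)) (Cx (ι b)) := by
  have : Fact (Nat.Prime 3) := ⟨Nat.prime_three⟩
  have o := h.toO4
  have hS : IsSylowIn 3 (SG ι) (Cx (ι (nv zz))) :=
    o.syl.of_le (gim_le.2 fun a ha => (o.cent_iff (o.SV_le ha) _).2 (XX_zz _ ha)) le_top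
  refine sylow_of ((o.syl.pgroup.to_le (gim_mono QV_le)).to_le inf_le_left) inf_le_right fun c hc hn ⟨n, e⟩ => ⟨?_, hc⟩
  have c1 := comm_of_odd (Odd.pow (by decide)) e (conj_of_norm_three o.ord_z
    (o.norm_of_D hb hy fun d hd => (conj_mem_of_mem_normalizer hn hd).1))
  obtain ⟨k, hk, e'⟩ := hS.exists_conj_mem (mem_Cx.2 c1) (isPGroup_zpowers_of_pow e)
  have k1 := o.norm_z (.inl (mem_Cx'.1 hk))
  have k2 := o.nQ k1
  obtain ⟨s, hs, es⟩ := (h.mem_im o.SV_le).1 e'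
  by_cases p : Perp s.v zz
  · have := conj_mem_of_mem_normalizer' k2 (es ▸ mem_gim_of (ι := ι) (show s ∈ QV from ⟨p, hs⟩))
    simpa [mul_assoc] using this
  obtain ⟨b', hb', eb⟩ := (h.mem_im (QV_le.trans o.SV_le)).1 (conj_mem_of_mem_normalizer k2 (mem_gim_of hb))
  have cm : s * b' = b' * s := (h.comm_iff (o.SV_le hs) (o.SV_le hb'.2)).1 (by rw [es, eb, conj_mul, conj_mul, mem_Cx.1 hc])
  have e1 : act s.w b'.v * b'.v⁻¹ = act b'.w s.v * s.v⁻¹ := by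
    have := congrArg N4.v cm
    rw [N4.mul_v, N4.mul_v, Rec3B.W4.V_comm s.v, Rec3B.W4.V_comm b'.v] at this
    rw [mul_inv_eq_iff_eq_mul, mul_assoc, Rec3B.W4.V_comm s.v⁻¹, ← mul_assoc, ← this, mul_inv_cancel_right]
  have e2 : b'.w = 1 := (by decide +kernel : ∀ w ∈ XX, ∀ v, ¬ Perp v zz → act w v * v⁻¹ ∈ [1, zz, zz⁻¹] → w = 1) _ hb'.2 _ p
    (e1 ▸ (by decide +kernel : ∀ w ∈ XX, ∀ v, Perp v zz → act w v * v⁻¹ ∈ [1, zz, zz⁻¹]) _ hs _ hb'.1)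
  have e3 := conj_mem_of_mem_normalizer' (h.norm_K k1) (x := ι b') ⟨(o.cent_iff (o.SV_le hb'.2) _).2 (XX_zz _ hb'.2),
    (o.cent_iff (o.SV_le hb'.2) _).2 (by rw [e2, act_one])⟩
  rw [eb, show k⁻¹ * (k * ι b * k⁻¹) * k = ι b by group] at e3
  exact absurd ((o.cent_iff (o.SV_le hb.2) _).1 e3.2) hy

theorem to_Q (h : O8 Γ ι) {a : N4} (ha : a ∈ SV) (hy : act a.w yy ≠ yy) (h3 : a ^ 3 = 1) :
    ∃ b ∈ QV, b.w = a.w ∧ ∃ g, g * ι a * g⁻¹ = ι b := by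
  rcases conj_QV ha h3 with k | ⟨w, hw, k⟩
  · exact absurd (by rw [mem_JV.1 k, act_one]) hy
  · exact ⟨_, k, conj_XX hw ha k.2, _, h.conj (nl_mem (h.om hw)) (h.toO4.SV_le ha)⟩

theorem notJ (h : O8 Γ ι) {a : N4} (ha : a ∈ SV) (hy : act a.w yy ≠ yy) (g : G) : g * ι a * g⁻¹ ∉ JG ι := fun c => by
  have : Fact (Nat.Prime 3) := ⟨Nat.prime_three⟩
  have o := h.toO4
  obtain ⟨v, ev⟩ := o.mem_J.1 c
  have h3 : a ^ 3 = 1 := (h.eq_one_iff (pow_mem (o.SV_le ha) 3)).1 (by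
    rw [h.pow (o.SV_le ha), ← conj_eq_one_iff (a := g), ← conj_pow, ← ev, ← h.pow (nv_mem _ _), ← map_pow, pow_succ, pow_two,
      Rec3B.W4.V_cube, map_one, h.one])
  obtain ⟨b, hb, e, g', e'⟩ := h.to_Q ha hy h3
  have cJ : ∀ x ∈ JG ι, ∀ y ∈ JG ι, x * y = y * x := fun x hx y hy => by
    obtain ⟨u, rfl⟩ := o.mem_J.1 hx
    obtain ⟨u', rfl⟩ := o.mem_J.1 hy
    exact mem_Cx.1 ((o.cent_iff (nv_mem _ _) _).2 (act_one _))
  obtain ⟨k, -, hk⟩ := (h.sylow_D hb (e ▸ hy)).exists_cj_le (isPGroup_cj (g' * g⁻¹) (o.syl.pgroup.to_le (gim_mono (JV_le _))))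
    (cj_le_iff.2 fun x hx => mem_Cx.2 (by
      rw [← e', show g' * ι a * g'⁻¹ = g' * g⁻¹ * (g * ι a * g⁻¹) * (g' * g⁻¹)⁻¹ by group, conj_mul, conj_mul, cJ _ hx _ c]))
  rw [← cj_mul] at hk
  have := o.uniq (hk.trans (inf_le_left.trans (gim_mono QV_le))) (fun x hx y hy => by
    have := congrArg (fun t => k * (g' * g⁻¹) * t * (k * (g' * g⁻¹))⁻¹) (cJ _ (mem_cj.1 hx) _ (mem_cj.1 hy))
    simpa [mul_assoc] using this) (by rw [card_cj, h.card_im (JV_le _), card_JV])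
  rw [this] at hk
  exact absurd ((h.mem_im_iff (QV_le.trans o.SV_le) (nv_mem _ x1)).1 (hk (mem_gim_of (nv_JV x1))).1) (by decide +kernel)

theorem fus_N (h : O8 WP43 ι) {a b : N4} (ha : a ∈ SV) (hb : b ∈ SV) {g : G} (hg : g ∈ normalizer (zpowers (ι (nv zz)) : Set G))
    (e : g * ι a * g⁻¹ = ι b) : act a.w yy = act b.w yy := by
  have o := h.toO4
  obtain ⟨k, hk, n, hn, rfl⟩ := h.nz hg
  have n1 := conj_of_norm_three o.ord_z ((mul_mem_cancel_left (o.norm_z (.inl (mem_Cx'.1 hk.1)))).1 hg)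
  rw [o.conj_ev hn, ← h.inv (nv_mem _ _), ← map_inv, h.eq_iff (nv_mem _ _) (nv_mem _ _), h.eq_iff (nv_mem _ _) (nv_mem _ _),
    nv_inj.eq_iff, nv_inj.eq_iff] at n1
  obtain ⟨m1, i, -, m2⟩ := (by decide +kernel : ∀ n : GO, act n zz = zz ∨ act n zz = zz⁻¹ → n ∈ WP43 → ∀ w ∈ XX,
    act n (act w (act n⁻¹ yy)) = act w yy ∧ ∃ i < 3, act w yy = yy * zz ^ i) n.w n1 hn a.w ha
  have a' := mul_mem (mul_mem hn (o.SV_le ha)) (inv_mem hn)
  have e1 := o.conj_ev a' yy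
  rw [show act (n * a * n⁻¹).w yy = act a.w yy by rw [← m1, ← mul_act, ← mul_act]; rfl, ← h.conj hn (o.SV_le ha)] at e1
  have e2 := o.conj_ev (o.SV_le hb) yy
  have e3 : k ∈ Cx (ι (nv (act a.w yy))) := by
    rw [m2, map_mul, map_pow, h.mul (nv_mem _ _) (pow_mem (nv_mem _ _) _), h.pow (nv_mem _ _)]
    exact mem_Cx.2 ((show Commute k _ from mem_Cx.1 hk.2).mul_right ((show Commute k _ from mem_Cx.1 hk.1).pow_right i))
  refine nv_inj (h.inj (nv_mem _ _) (nv_mem _ _) ?_)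
  rw [← e2, ← e, ← mem_Cx'.1 e3, ← e1]
  nth_rw 1 [← mem_Cx'.1 (inv_mem (mem_inf.1 hk).2)]
  group

theorem fus (h : O8 WP43 ι) {a b : N4} (ha : a ∈ SV) (hb : b ∈ SV) {g : G} (e : g * ι a * g⁻¹ = ι b) :
    act a.w yy = act b.w yy := by
  have : Fact (Nat.Prime 3) := ⟨Nat.prime_three⟩
  have o := h.toO4
  have e3 : g * ι (a ^ 3) * g⁻¹ = ι (b ^ 3) := by rw [h.pow (o.SV_le ha), h.pow (o.SV_le hb), ← e, conj_pow]
  have i3 : a ^ 3 = 1 ↔ b ^ 3 = 1 := by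
    rw [← h.eq_one_iff (pow_mem (o.SV_le hb) 3), ← e3, conj_eq_one_iff, h.eq_one_iff (pow_mem (o.SV_le ha) 3)]
  by_cases h3 : a ^ 3 = 1
  swap
  · refine h.fus_N ha hb (o.norm_z ?_) e
    rcases (cube_SV ha).resolve_left h3 with p | p <;> rcases (cube_SV hb).resolve_left (i3.not.1 h3) with q | q <;>
      simp only [p, q, h.inv (nv_mem _ zz)] at e3
    exacts [.inl e3, .inr e3, .inr (inv_injective (by rw [inv_inv]; nth_rw 2 [← e3]; group)), .inl (inv_injective (by rw [← e3]; group))]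
  have k : ∀ {a b : N4}, a ∈ SV → b ∈ SV → a ^ 3 = 1 → ∀ {g}, g * ι a * g⁻¹ = ι b → act a.w yy = yy → act b.w yy = yy :=
    fun ha hb h3 g e hy => by
      obtain ⟨l, -, el⟩ := h.conjJ ha hy h3
      by_contra c
      exact h.notJ hb c (l * g⁻¹) (by rw [← e]; simpa [mul_assoc] using el)
  by_cases hy : act a.w yy = yy
  · rw [hy, k ha hb h3 e hy]
  have hy' : act b.w yy ≠ yy := fun c => hy (k hb ha (i3.1 h3) (g := g⁻¹) (by rw [← e]; group) c)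
  obtain ⟨a', ha', ea, p, ep⟩ := h.to_Q ha hy h3
  obtain ⟨b', hb', eb, q, eq⟩ := h.to_Q hb hy' (i3.1 h3)
  have e' : q * g * p⁻¹ * ι a' * (q * g * p⁻¹)⁻¹ = ι b' := by rw [← ep, ← eq, ← e]; group
  obtain ⟨c, hc, ec⟩ := (h.sylow_D hb' (eb ▸ hy')).exists_cj_le (isPGroup_cj (q * g * p⁻¹) (h.sylow_D ha' (ea ▸ hy)).pgroup)
    (cj_le_iff.2 fun x hx => mem_Cx.2 (by rw [← e', conj_mul, conj_mul, mem_Cx.1 hx.2]))
  rw [← cj_mul] at ec
  rw [← ea, ← eb]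
  exact h.fus_N ha'.2 hb'.2 (o.norm_of_D ha' (ea ▸ hy) fun d hd => (cj_le_iff.1 ec d hd).1)
    (by rw [← mem_Cx'.1 hc, ← e']; group)

open scoped IsMulCommutative in
theorem exists_G0 (h : O8 WP43 ι) : ∃ G0, G0D ι G0 := by
  have : Fact (Nat.Prime 3) := ⟨Nat.prime_three⟩
  have o := h.toO4
  obtain ⟨k1, k2, -⟩ := Transfer.ker_transferFocal_spec (SG ι) (Transfer.coprime_index_relIndex_sylow o.syl.toSylowTop _)
  set K := (SG ι).transferFocal.ker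
  have hP : gimg ι PV ≤ SG ι := gim_mono inf_le_left
  have k3 : K ⊓ SG ι ≤ gimg ι PV := k1 ▸ Transfer.focalSubgroup_le_iff.2 fun x hx g hg => by
    obtain ⟨a, ha, rfl⟩ := (h.mem_im o.SV_le).1 hx
    obtain ⟨b, hb, e⟩ := (h.mem_im o.SV_le).1 hg
    rw [← e, ← h.inv (o.SV_le ha), ← h.mul (inv_mem (o.SV_le ha)) (o.SV_le hb)]
    exact mem_gim_of (mem_PV.2 ⟨mul_mem (inv_mem ha) hb, by
      rw [N4.mul_w, mul_act, ← h.fus ha hb e.symm]; exact inv_act_act _ _⟩)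
  have hn : (K ⊔ gimg ι PV).Normal := ⟨fun x hx g => by
    rw [show g * x * g⁻¹ = g * x * g⁻¹ * x⁻¹ * x by group]
    exact mul_mem (mem_sup_left (Abelianization.commutator_subset_ker (SG ι).transferFocal (commutator_mem_commutator (mem_top g) (mem_top x)))) hx⟩
  have k4 : (K ⊔ gimg ι PV) ⊓ SG ι = gimg ι PV := le_antisymm (fun x hx => by
    obtain ⟨u, hu, p, hp, rfl⟩ := mem_sup_of_normal_left.1 hx.1
    exact mul_mem (k3 ⟨hu, (mul_mem_cancel_right (hP hp)).1 hx.2⟩) hp) (le_inf le_sup_right hP)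
  have hi : (K ⊔ gimg ι PV).index = 3 := by
    have := card_mul_relIndex' hP
    rw [h.card_im (K := PV) (inf_le_left.trans o.SV_le), h.card_im o.SV_le, card_PV, card_SV, ← k4, inf_relIndex_right,
      ← relIndex_sup_left, eq_top_iff.2 (k2.ge.trans (sup_le_sup_right le_sup_left _)), relIndex_top_right] at this
    omega
  have hw : ∀ a : N4, a.w ∈ WP4 → ι a ∈ K ⊔ gimg ι PV := fun a ha => by
    have := sp_WP4 (Δ := (((K ⊔ gimg ι PV).comap h.hom).map (NG WP43).subtype).comap nl) (fun w hw =>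
      ⟨⟨_, nl_mem (mul_mem (mul_mem (h.om hw) r4_P) (inv_mem (h.om hw)))⟩, by
        have := hn.conj_mem (ι (nl r4)) (mem_of_index hn hi (by
          rw [h.ord_two (nl_mem r4_P) (by decide +kernel) (by decide +kernel)]; decide)) (ι (nl w))
        rwa [h.conj (nl_mem (h.om hw)) (nl_mem r4_P), ← map_mul, ← map_inv, ← map_mul] at this, rfl⟩) ha
    obtain ⟨⟨_, _⟩, m, rfl⟩ := this
    rw [← nv_nl a, h.mul (nv_mem _ _) (nl_mem (WP4_le ha))]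
    exact mul_mem (mem_sup_right (mem_gim_of (mem_PV.2 ⟨nv_mem _ _, act_one _⟩))) m
  refine ⟨_, hn, hi, fun a ha => ⟨fun m => ?_, hw a⟩⟩
  obtain ⟨w, -, w1, w2, w3⟩ := (by decide +kernel : ∀ g ∈ WP43, ∃ w ∈ [1, al, al⁻¹], w ∈ XX ∧ (act w yy = yy → w = 1) ∧ w * g ∈ WP4) _ ha
  have m1 := hw (nl w * a) w3
  rw [h.mul (o.SV_le (nl_mem w1)) ha, mul_mem_cancel_right m] at m1
  have m2 := (h.mem_im_iff (K := PV) (inf_le_left.trans o.SV_le) (o.SV_le (nl_mem w1))).1 (k4.le ⟨m1, mem_gim_of (nl_mem w1)⟩)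
  rwa [w2 (mem_PV.1 m2).2, one_mul] at w3

end O8

end CfsgLib.Rec3C
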