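import Cfsg.Agent.Lib.Rec3C.Set2
import Cfsg.Agent.Lib.Rec3C.Bas

/-! O8LOC: from the structure of `C(z)` to `O8` (plans/REC3C.md) -/

set_option autoImplicit false
set_option maxRecDepth 100000
set_option maxHeartbeats 400000

namespace CfsgLib.Rec3C

open Subgroup Cfsg CfsgLib.Tech CfsgLib.PComp CfsgLib.W2 CfsgLib.Rec3
open CfsgLib.Rec3B (V81 EQ Q8 KC EE MM Ri TyE zi gi neg)
open CfsgLib.U43 (SL)
open V4

variable {G : Type*} [Group G] [Finite G] {z g : G} {Q : Subgroup G}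

namespace O8LocP

open CfsgLib.U43.SL (o)
open CfsgLib.Rec3B.Es CfsgLib.Sect

theorem red {A : Type*} [Group A] (hc : ∀ x y : A, x * y = y * x) (h3 : ∀ x : A, x ^ 3 = 1) {x0 : A} (h0 : x0 ≠ 1)
    (ρ : SL → A →* A) (hm : ∀ s s' x, ρ s (ρ s' x) = ρ (s * s') x) (hn : ∀ x, ρ (o 1) x = x⁻¹) :
    ∃ v, v ≠ 1 ∧ ∀ K : Subgroup A, v ∈ K → ρ (o 2) v ∈ K → ρ (o 4) v ∈ K → ∀ s, ρ s v ∈ K := by
  let _ : CommGroup A := { ‹Group A› with mul_comm := hc }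
  have ng : ∀ s x, ρ (o 1 * s) x = (ρ s x)⁻¹ := fun s x => by rw [← hm, hn]
  have one : ∀ x, ρ 1 x = x := fun x => by
    rw [show (1 : SL) = o 1 * o 1 by decide +kernel, ng, hn, inv_inv]
  obtain ⟨N, hN⟩ : ∃ N : A → A, ∀ x, N x = ρ (o 2) x * ρ (o 4) x * ρ (o 6) x := ⟨_, fun _ => rfl⟩
  obtain ⟨M, hM⟩ : ∃ M : A → A, ∀ x, M x = ρ (o 8) x * x⁻¹ := ⟨_, fun _ => rfl⟩
  have NN : ∀ x, N (N x) = 1 := fun x => by
    obtain ⟨e1, e2, e3, e4, e5, e6⟩ : o 2 * o 2 = o 1 ∧ o 4 * o 4 = o 1 ∧ o 6 * o 6 = o 1 ∧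
      o 4 * o 2 = o 1 * (o 2 * o 4) ∧ o 6 * o 2 = o 1 * (o 2 * o 6) ∧ o 6 * o 4 = o 1 * (o 4 * o 6) := by decide +kernel
    simp only [hN, map_mul, hm, e1, e2, e3, e4, e5, e6, ng, hn]
    rw [← inv_one, ← h3 x]
    apply Additive.ofMul.injective
    simp only [ofMul_mul, ofMul_inv, ofMul_pow]
    abel
  have MM : ∀ x, M (M (M x)) = 1 := fun x => by
    simp only [hM, map_mul, map_inv, hm, show o 8 * (o 8 * o 8) = 1 by decide +kernel, one]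
    rw [← mul_one 1, ← inv_one]
    nth_rw 1 [← h3 (ρ (o 8 * o 8) x)]
    rw [inv_one, ← h3 (ρ (o 8) x)]
    apply Additive.ofMul.injective
    simp only [ofMul_mul, ofMul_inv, ofMul_pow]
    abel
  have NM : ∀ x, N x = 1 → N (M x) = 1 := fun x e => by
    obtain ⟨e1, e2, e3⟩ : o 2 * o 8 = o 8 * o 6 ∧ o 4 * o 8 = o 8 * o 2 ∧ o 6 * o 8 = o 8 * o 4 := by decide +kernel
    have : N (M x) = ρ (o 8) (N x) * (N x)⁻¹ := by
      simp only [hN, hM, map_mul, map_inv, hm, e1, e2, e3]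
      apply Additive.ofMul.injective
      simp only [ofMul_mul, ofMul_inv]
      abel
    rw [this, e, map_one, inv_one, one_mul]
  obtain ⟨x, x1, x2⟩ : ∃ x, x ≠ 1 ∧ N x = 1 := by
    by_cases k : N x0 = 1
    exacts [⟨x0, h0, k⟩, ⟨_, k, NN x0⟩]
  obtain ⟨v, v1, v2, v3⟩ : ∃ v, v ≠ 1 ∧ N v = 1 ∧ M v = 1 := by
    by_cases k : M x = 1
    · exact ⟨x, x1, x2, k⟩
    by_cases k' : M (M x) = 1
    exacts [⟨_, k, NM _ x2, k'⟩, ⟨_, k', NM _ (NM _ x2), MM x⟩]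
  rw [hM, mul_inv_eq_one] at v3
  refine ⟨v, v1, fun K k1 k2 k3 s => ?_⟩
  have k4 : ρ (o 6) v ∈ K := (mul_mem_cancel_left (mul_mem k2 k3)).1 (hN v ▸ v2 ▸ one_mem _)
  have w : ∀ s, ρ (s * o 8) v = ρ s v := fun s => by rw [← hm, v3]
  obtain ⟨q, hq, e⟩ := (by decide +kernel : ∀ s : SL, ∃ q, (q = 1 ∨ q = o 2 ∨ q = o 4 ∨ q = o 6) ∧
    (s = q ∨ s = q * o 8 ∨ s = q * o 8 * o 8 ∨ s = o 1 * q ∨ s = o 1 * q * o 8 ∨ s = o 1 * q * o 8 * o 8)) s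
  have : ρ q v ∈ K := by
    rcases hq with rfl | rfl | rfl | rfl
    exacts [(one v).symm ▸ k1, k2, k3, k4]
  rcases e with rfl | rfl | rfl | rfl | rfl | rfl <;> simpa only [w, ng, inv_mem_iff] using this

theorem card_sup_le {K : Subgroup G} (h : EQ Q z) (e3 : ∀ q ∈ Q, q ^ 3 = 1) (hK : K ≤ Q) (hz : z ∈ K) {x : G}
    (hx : x ∈ Q) : Nat.card (K ⊔ zpowers x : Subgroup G) ≤ 3 * Nat.card K := by
  have h1 := Nat.le_of_dvd (Nat.mul_pos Nat.card_pos Nat.card_pos) (Coprime.card_sup_dvd_of_le_normalizer (K := K)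
    (zpowers_le.2 (mem_normalizer_of_forall fun y hy => by
      simpa using mul_mem (zpowers_le.2 hz (h.cmt x hx y (hK hy))) hy)))
  have h2 := Nat.le_of_dvd (by norm_num) (orderOf_dvd_of_pow_eq_one (e3 x hx))
  rw [Nat.card_zpowers] at h1
  nlinarith

end O8LocP

open O8LocP CfsgLib.Rec3B.Es CfsgLib.Sect
open CfsgLib.U43.SL (o)

/-- `π : C(z) → SL₂(3) × 2` has kernel `Q` and image `≥ SL₂(3) × 1`; if `-1` inverts `Q / ⟨z⟩`, this module is reducible -/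
theorem not_neg (h : XQ z Q) (π : Cx z →* SL × Multiplicative (ZMod 2)) (hk : ∀ c, π c = 1 ↔ (c : G) ∈ Q)
    (hs : ∀ s, ∃ c, π c = (s, 1)) {t : Cx z} (ht : π t = (U43.SL.o 1, 1)) (hn : neg Q z t = Q) :
    ∃ B : Subgroup G, zpowers z < B ∧ B < Q ∧ ∀ c : Cx z, (π c).2 = 1 → ∀ b ∈ B, (c : G) * b * (c : G)⁻¹ ∈ B := by
  choose l hl using hs
  have nq : ∀ (c : Cx z) {x : G}, x ∈ Q → c * x * (c : G)⁻¹ ∈ Q := fun c _ =>
    conj_mem_of_mem_normalizer (h.nQ (Set1P.Cx_le z c.2))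
  have eqv : ∀ c c' : Cx z, π c = π c' → ∀ x ∈ Q, (c * x * (c : G)⁻¹)⁻¹ * (c' * x * (c' : G)⁻¹) ∈ zpowers z :=
    fun c c' e x hx => by
      have := h.cmt _ (inv_mem (nq c hx)) _ ((hk (c' * c⁻¹)).1 (by rw [map_mul, map_inv, e, mul_inv_cancel]))
      convert this using 1
      simp only [coe_mul, coe_inv]
      group
  let Z : Subgroup Q := (zpowers z).subgroupOf Q
  haveI : Z.Normal := ⟨fun n hn p => show (p : G) * n * (p : G)⁻¹ ∈ zpowers z from (zcj hn (h.zc p.2)).symm ▸ hn⟩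
  have eq : ∀ {x y : Q}, (x : Q ⧸ Z) = y ↔ (x : G)⁻¹ * y ∈ zpowers z := QuotientGroup.eq
  let cQ : Cx z → Q →* Q := fun c => MonoidHom.mk' (fun x => ⟨_, nq c x.2⟩) fun x y => Subtype.ext (by
    simp only [coe_mul]; group)
  have cv : ∀ c x, (cQ c x : G) = c * x * (c : G)⁻¹ := fun _ _ => rfl
  let ρ : SL → Q ⧸ Z →* Q ⧸ Z := fun s => QuotientGroup.map Z Z (cQ (l s)) fun n hn =>
    show (l s : G) * n * (l s : G)⁻¹ ∈ zpowers z from (zcj hn (l s).2).symm ▸ hn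
  have hρ : ∀ (c : Cx z), (π c).2 = 1 → ∀ x : Q, ρ (π c).1 x = (cQ c x : Q) := fun c e x =>
    eq.2 (eqv _ _ ((hl _).trans (Prod.ext rfl e.symm)) x x.2)
  obtain ⟨x0, h0, h0'⟩ := exists_notMem (K := zpowers z) (H := Q) (by rw [cardZ h.z1 h.z3, h.card]; norm_num)
  obtain ⟨v, v1, hv⟩ := red (A := Q ⧸ Z) (x0 := (⟨x0, h0⟩ : Q))
    (fun x y => QuotientGroup.induction_on x fun x => QuotientGroup.induction_on y fun y => eq.2 (by
      convert h.cmt _ (inv_mem y.2) _ (inv_mem x.2) using 1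
      simp only [coe_mul]
      group))
    (fun x => QuotientGroup.induction_on x fun x => by
      rw [← QuotientGroup.mk_pow, show x ^ 3 = 1 from Subtype.ext (h.exp x x.2), QuotientGroup.mk_one])
    (fun e => h0' ((QuotientGroup.eq_one_iff (N := Z) ⟨x0, h0⟩).1 e)) ρ
    (fun s s' x => QuotientGroup.induction_on x fun x => eq.2 (by
      convert eqv (l s * l s') (l (s * s')) (by rw [map_mul, hl, hl, hl]; rfl) x x.2 using 1
      simp only [cv, coe_mul]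
      group))
    (fun x => QuotientGroup.induction_on x fun x => by
      have := hρ t (by rw [ht]) x
      rw [ht] at this
      refine this.trans (eq.2 ?_)
      have k := inv_mem (h.ez.mem_neg.1 (hn.ge x.2)).2
      rw [← zcj k (h.zc x.2)] at k
      convert k using 1
      simp only [cv, coe_inv]
      group)
  obtain ⟨v, rfl⟩ := QuotientGroup.mk_surjective v
  obtain ⟨B, hB⟩ : ∃ B : Subgroup G,
    B = zpowers z ⊔ zpowers (v : G) ⊔ zpowers (cQ (l (o 2)) v : G) ⊔ zpowers (cQ (l (o 4)) v : G) := ⟨_, rfl⟩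
  have l0 := h.ez.ZP
  have l1 := sup_le l0 (zpowers_le.2 v.2)
  have l2 := sup_le l1 (zpowers_le.2 (cQ (l (o 2)) v).2)
  have z0 := mem_zpowers z
  have c1 := card_sup_le h.toEQ h.exp l0 z0 v.2
  have c2 := card_sup_le h.toEQ h.exp l1 (mem_sup_left z0) (cQ (l (o 2)) v).2
  have c3 := card_sup_le h.toEQ h.exp l2 (mem_sup_left (mem_sup_left z0)) (cQ (l (o 4)) v).2
  rw [← hB] at c3
  have zB : zpowers z ≤ B := hB ▸ le_sup_of_le_left (le_sup_of_le_left le_sup_left)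
  have vB : (v : G) ∈ B := hB ▸ mem_sup_left (mem_sup_left (mem_sup_right (mem_zpowers _)))
  have key : ∀ c : Cx z, (π c).2 = 1 → (c : G) * v * (c : G)⁻¹ ∈ B := fun c e => by
    obtain ⟨b, hb, k⟩ := hv ((B.subgroupOf Q).map (QuotientGroup.mk' Z)) (mem_map_of_mem _ vB)
      (mem_map_of_mem _ (show (cQ (l (o 2)) v : G) ∈ B from hB ▸ mem_sup_left (mem_sup_right (mem_zpowers _))))
      (mem_map_of_mem _ (show (cQ (l (o 4)) v : G) ∈ B from hB ▸ mem_sup_right (mem_zpowers _))) (π c).1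
    exact (mul_mem_cancel_left (inv_mem hb)).1 (zB (eq.1 (k.trans (hρ c e v))))
  refine ⟨B, lt_of_le_of_ne zB fun e => v1 ((QuotientGroup.eq_one_iff _).2 (show (v : G) ∈ zpowers z from e ▸ vB)),
    lt_of_le_of_ne (hB ▸ sup_le l2 (zpowers_le.2 (cQ (l (o 4)) v).2)) fun e => ?_, fun c e => ?_⟩
  · rw [e, h.card] at c3
    rw [cardZ h.z1 h.z3] at c1
    omega
  · have k : ∀ s, (cQ (l s) v : G) ∈ B.comap (MulAut.conj (c : G)).toMonoidHom := fun s => by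
      have := key (c * l s) (by rw [map_mul, hl, Prod.snd_mul, e, one_mul])
      simpa [cv, mul_assoc] using this
    show B ≤ B.comap (MulAut.conj (c : G)).toMonoidHom
    nth_rw 1 [hB]
    exact sup_le (sup_le (sup_le (zpowers_le.2 (show c * z * (c : G)⁻¹ ∈ B by rw [mem_Cx'.1 c.2]; exact zB z0))
      (zpowers_le.2 (key c e))) (zpowers_le.2 (k _))) (zpowers_le.2 (k _))

namespace O8LocP

theorem gen_su {K : Subgroup SL} {s u : SL} (h1 : s * s = o 1) (h2 : u ^ 3 = 1) (h3 : u ≠ 1) (hs : s ∈ K) (hu : u ∈ K)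
    (b : SL) : b ∈ K := by
  obtain ⟨i, j, k, rfl⟩ := (by decide +kernel : ∀ s : SL, s * s = o 1 → ∀ u : SL, u ^ 3 = 1 → u ≠ 1 → ∀ b,
    ∃ i : Fin 4, ∃ j : Fin 2, ∃ k : Fin 3, b = s ^ i.val * (u * s * u⁻¹) ^ j.val * u ^ k.val) s h1 u h2 h3 b
  exact mul_mem (mul_mem (pow_mem hs _) (pow_mem (mul_mem (mul_mem hu hs) (inv_mem hu)) _)) (pow_mem hu _)

theorem model_y : ∀ w ∈ XX, ∀ v, Perp v zz → (∀ b ∈ [nv x3, nl r4], b * ⟨v, w⟩ * b⁻¹ * (⟨v, w⟩ : N4)⁻¹ = 1 ∨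
    b * ⟨v, w⟩ * b⁻¹ * (⟨v, w⟩ : N4)⁻¹ = nv zz ∨ b * ⟨v, w⟩ * b⁻¹ * (⟨v, w⟩ : N4)⁻¹ = (nv zz)⁻¹) →
    ∃ i < 3, ∃ j < 3, (⟨v, w⟩ : N4) = nv zz ^ i * nv yy ^ j := by decide +kernel

variable {π : Cx z →* SL × Multiplicative (ZMod 2)} (h : XQ z Q) (hk : ∀ c, π c = 1 ↔ (c : G) ∈ Q)
  (hs : ∀ s, ∃ c, π c = (s, 1))

omit [Finite G] in
include hk in
theorem mod {c d : Cx z} (e : π c = π d) : (c : G) * (d : G)⁻¹ ∈ Q :=
  (hk (c * d⁻¹)).1 (by rw [map_mul, map_inv, e, mul_inv_cancel])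

include h hk hs

theorem card6 (S : Subgroup G) (hS : IsSylowIn 3 S (Cx z)) : Nat.card S = 729 := by
  have h1 := π.ker.card_mul_index
  rw [index_ker, show π.ker = Q.subgroupOf (Cx z) from Subgroup.ext hk,
    Nat.card_congr (subgroupOfEquivOfLe h.zc).toEquiv, h.card, ← card_mul_relIndex' hS.le] at h1
  have c24 : Nat.card SL = 24 := Nat.card_fin 24
  have h2 := card_subgroup_dvd_card π.range
  rw [Nat.card_prod, c24, Nat.card_congr Multiplicative.toAdd, Nat.card_zmod] at h2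
  have h3 := card_dvd_of_le (show (MonoidHom.inl SL (Multiplicative (ZMod 2))).range ≤ π.range by
    rintro _ ⟨s, rfl⟩; exact hs s)
  rw [← Nat.card_congr (MonoidHom.ofInjective fun _ _ e => congrArg Prod.fst e).toEquiv, c24] at h3
  obtain ⟨k, e⟩ := IsPGroup.iff_card.1 hS.pgroup
  have h4 : 3 ^ k ∣ 3 ^ 6 := (Nat.Coprime.pow_left k (by norm_num : Nat.Coprime 3 16)).dvd_of_dvd_mul_right
    ((Dvd.intro _ (e ▸ h1.symm)).trans (mul_dvd_mul_left 243 h2))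
  have h5 : 3 ^ 6 ∣ 3 ^ k := (Nat.Coprime.pow_left 6 ((Nat.Prime.coprime_iff_not_dvd Nat.prime_three).2
    hS.not_dvd)).dvd_of_dvd_mul_right (e ▸ h1 ▸ (Dvd.intro 8 rfl).trans (mul_dvd_mul_left 243 h3))
  rw [e, Nat.dvd_antisymm h4 h5]
  rfl

theorem lift0 {s : SL} (e : s * s = o 1) : ∃ q, π q = (s, 1) ∧ π (q * q) = (o 1, 1) ∧ q * q * (q * q) = 1 := by
  obtain ⟨c, hc⟩ := hs s
  obtain ⟨e1, e2⟩ := (by decide +kernel : ∀ s : SL, s * s = o 1 → s ^ 4 = 1 ∧ s ^ 9 = s) s e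
  have e3 : π (c ^ 9) = (s, 1) := by rw [map_pow, hc, Prod.pow_mk, e2, one_pow]
  have e4 : (c ^ 4) ^ 3 = 1 := Subtype.ext (h.exp _ ((hk _).1 (by rw [map_pow, hc, Prod.pow_mk, e1, one_pow]; rfl)))
  exact ⟨_, e3, by rw [map_mul, e3, Prod.mk_mul_mk, e, one_mul],
    by rw [← pow_add, ← pow_add, show 9 + 9 + (9 + 9) = 4 * 3 * 3 from rfl, pow_mul, pow_mul, e4, one_pow]⟩

theorem lift {s : SL} (e : s * s = o 1) {t : Cx z} (ht : π t = (o 1, 1)) (tt : t * t = 1) :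
    ∃ q, π q = (s, 1) ∧ q * q = t := by
  obtain ⟨q, h1, h2, h3⟩ := lift0 h hk hs e
  have u1 : π (q * q * t) = 1 := by rw [map_mul, h2, ht]; decide +kernel
  have u3 : (q * q * t) ^ 3 = 1 := Subtype.ext (h.exp _ ((hk _).1 u1))
  refine ⟨q * q * t * q * (q * q * t)⁻¹, by rw [map_mul, map_mul, map_inv, u1, h1, inv_one, one_mul, mul_one], ?_⟩
  calc _ = q * q * t * (q * q) * t⁻¹ * (q * q)⁻¹ := by group
    _ = (q * q * t) ^ 3 * t⁻¹ := by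
      rw [inv_eq_of_mul_eq_one_right h3]
      nth_rw 1 [inv_eq_of_mul_eq_one_right tt]
      rw [pow_three]; group
    _ = t := by rw [u3, one_mul, inv_eq_of_mul_eq_one_right tt]

theorem exists_q {t : Cx z} (ht : π t = (o 1, 1)) (tt : t * t = 1) (h1 : ¬ Q ≤ Cx (t : G)) (h2 : neg Q z t ≠ Q) :
    ∃ q s, s * s = o 1 ∧ π q = (s, 1) ∧ q * q = t ∧ Q ⊓ Cx (t : G) ≤ Cx (q : G) := by
  have nq : ∀ c : Cx z, (c : G) ∈ normalizer (Q : Set G) := fun c => h.nQ (Set1P.Cx_le z c.2)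
  have tt' : (t : G) * t ∈ centralizer (Q : Set G) := by rw [← coe_mul, tt]; exact one_mem _
  have c27 := ((((h.cards (nq t) t.2 tt').resolve_left h1).resolve_left h2)).1
  have ez := h.ez.pos (nq t) t.2 tt'
  have ct : ∀ {q : Cx z}, q * q = t → (q : G) ∈ Cx (t : G) := fun e => mem_Cx.2 (by rw [← e, coe_mul, mul_assoc])
  have c2 : ∀ {q : Cx z}, q * q = t → (q : G) * q ∈ centralizer ((Q ⊓ Cx (t : G) : Subgroup G) : Set G) :=
    fun e y hy => by rw [← coe_mul, e]; exact mem_Cx.1 hy.2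
  have nP : ∀ {q : Cx z}, q * q = t → (q : G) ∈ normalizer ((Q ⊓ Cx (t : G) : Subgroup G) : Set G) := fun e =>
    mem_normalizer_of_forall fun y hy => mem_inf.2 ⟨conj_mem_of_mem_normalizer (nq _) hy.1,
      mul_mem (mul_mem (ct e) (mem_inf.1 hy).2) (inv_mem (ct e))⟩
  obtain ⟨e1, e2, e3, e4⟩ : o 2 * o 2 = o 1 ∧ o 4 * o 4 = o 1 ∧ o 6 * o 6 = o 1 ∧ o 2 * o 4 = o 6 := by decide +kernel
  obtain ⟨i, i1, i2⟩ := lift h hk hs e1 ht tt
  obtain ⟨j, j1, j2⟩ := lift h hk hs e2 ht tt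
  obtain ⟨k, k1, k2⟩ := lift h hk hs e3 ht tt
  rcases ez.scalar (nP i2) i.2 (c2 i2) c27 with a | a
  · exact ⟨i, _, e1, i1, i2, a⟩
  rcases ez.scalar (nP j2) j.2 (c2 j2) c27 with b | b
  · exact ⟨j, _, e2, j1, j2, b⟩
  refine ⟨k, _, e3, k1, k2, fun x hx => ez.fix_mod k.2 (c2 k2 x hx).symm ?_⟩
  have p := mod hk (c := k) (d := i * j) (by rw [map_mul, i1, j1, k1, Prod.mk_mul_mk, e4, one_mul])
  have a1 := (ez.mem_neg.1 (a.ge (inv_mem hx))).2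
  have b1 := (ez.mem_neg.1 (b.ge hx)).2
  rw [← zcj b1 i.2] at b1
  have m := h.cmt _ p _ (conj_mem_of_mem_normalizer (nq (i * j)) hx.1)
  convert mul_mem m (mul_mem b1 a1) using 1
  simp only [coe_mul]
  group

end O8LocP

theorem O8LocP.of_O4 {Γ : Subgroup GO} {ι : N4 → G} (h : O4 Γ ι) (hr : r4 ∈ Γ)
    {π : Cx (ι (nv zz)) →* SL × Multiplicative (ZMod 2)} (hk : ∀ c, π c = 1 ↔ (c : G) ∈ QG ι)
    (hs : ∀ s, ∃ c, π c = (s, 1)) {t : Cx (ι (nv zz))} (ht : π t = (o 1, 1)) (tt : t * t = 1) (et : ι (nl r4) = t)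
    (h1 : ¬ QG ι ≤ Cx (t : G)) (h2 : neg (QG ι) (ι (nv zz)) t ≠ QG ι) : O8 Γ ι := by
  have x := h.xq
  have QL := QV_le.trans h.SV_le
  have mQ : ∀ {a}, a ∈ NG Γ → (ι a ∈ QG ι ↔ a ∈ QV) := fun ha => h.mem_im_iff QL ha
  have cv : ∀ u v, ι (nv u) ∈ Cx (ι (nv v)) := fun u v => (h.cent_iff (nv_mem Γ u) v).2 (act_one v)
  have mr := nl_mem hr
  obtain ⟨q, s, ss, qs, qt, qc⟩ := exists_q x hk hs ht tt h1 h2
  have yQ : ι (nv yy) ∈ QG ι := mem_gim_of (by decide +kernel)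
  have qy : (q : G) ∈ Cx (ι (nv yy)) :=
    Cx_comm.1 (qc ⟨yQ, et ▸ Cx_comm.1 ((h.cent_iff mr yy).2 (by decide +kernel))⟩)
  obtain ⟨e, ee⟩ : ∃ e : Cx (ι (nv zz)), (e : G) = ι (nv x3) := ⟨⟨_, cv x3 zz⟩, rfl⟩
  have eQ : (e : G) ∉ QG ι := fun k => absurd ((mQ (nv_mem _ _)).1 (ee ▸ k)) (by decide +kernel)
  have e3 : e ^ 3 = 1 := Subtype.ext (by
    rw [coe_pow, ee, ← h.pow (nv_mem _ _), show nv x3 ^ 3 = 1 by decide +kernel, h.one]; rfl)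
  have cube : ∀ c, c ^ 3 = 1 → π c = ((π c).1, 1) ∧ (π c).1 ^ 3 = 1 := fun c k => by
    have : π c ^ 3 = 1 := by rw [← map_pow, k, map_one]
    exact ⟨Prod.ext rfl ((by decide : ∀ b : Multiplicative (ZMod 2), b ^ 3 = 1 → b = 1) _ (congrArg Prod.snd this)),
      congrArg Prod.fst this⟩
  obtain ⟨eu, u3⟩ := cube e e3
  generalize (π e).1 = u at eu u3
  have u1 : u ≠ 1 := fun k => eQ ((hk e).1 (by rw [eu, k]; rfl))
  have Qc : ∀ p ∈ QG ι, QG ι ≤ cmz (ι (nv zz)) p := fun p hp y hy => ⟨x.zc hy, x.cmt y hy p hp⟩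
  have md : ∀ {K : Subgroup G} {c d}, QG ι ≤ K → π c = π d → (d : G) ∈ K → (c : G) ∈ K := fun l e k =>
    (mul_mem_cancel_right (inv_mem k)).1 (l (mod hk e))
  have cm : ∀ c, π (c * e * c⁻¹ * e⁻¹) = ((π c).1 * u * (π c).1⁻¹ * u⁻¹, 1) := fun c => by
    rw [map_mul, map_mul, map_mul, map_inv, map_inv, eu]
    exact Prod.ext rfl (by simp)
  have sq : ∀ c, ((π c).1 * u * (π c).1⁻¹ * u⁻¹) ^ 2 = o 1 → π t = π ((c * e * c⁻¹ * e⁻¹) ^ 2) := fun c k => by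
    rw [map_pow, cm, Prod.pow_mk, k, one_pow, ht]
  refine ⟨h, ?_, ⟨q, ⟨q.2, qy⟩, by rw [← coe_mul, qt, et]⟩, fun g hg => ?_, fun g hg => ?_⟩
  · rcases between h.om hr with k | k | rfl
    · exact Or.inl k
    · exact Or.inr k
    have mt : nl th ∈ NG ⊤ := mem_top th
    have := (hk (⟨_, (h.cent_iff mt zz).2 th_vals.1⟩ * t * ⟨_, (h.cent_iff mt zz).2 th_vals.1⟩⁻¹ * t)).1 (by
      rw [map_mul, map_mul, map_mul, map_inv, ht]
      exact (by decide +kernel : ∀ a : SL, ∀ b : Multiplicative (ZMod 2),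
        (a, b) * (o 1, 1) * (a, b)⁻¹ * (o 1, 1) = 1) _ _)
    simp only [coe_mul, coe_inv, ← et] at this
    rw [h.conj mt mr, ← h.mul (mem_top _) mr, mQ (mem_top _)] at this
    exact absurd this (by decide +kernel)
  · have A : ∀ c : Cx (ι (nv zz)), c ^ 3 = 1 → (c : G) ∈ cmz (ι (nv zz)) (ι (nv yy)) := fun c k => by
      have cy : ∀ {d : Cx (ι (nv zz))}, (d : G) ∈ Cx (ι (nv yy)) → (d : G) ∈ cmz (ι (nv zz)) (ι (nv yy)) :=
        fun {d} k => ⟨d.2, by rw [mem_Cx'.1 k, mul_inv_cancel]; exact one_mem _⟩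
      obtain ⟨d, hd, ed⟩ := gen_su (K := (((cmz (ι (nv zz)) (ι (nv yy))).subgroupOf _).map π).comap
        (MonoidHom.inl _ _)) ss u3 u1 ⟨q, cy qy, qs⟩ ⟨e, cy (ee ▸ cv x3 yy), eu⟩ (π c).1
      exact md (Qc _ yQ) ((cube c k).1.trans ed.symm) hd
    have pQ := conj_mem_of_mem_normalizer (h.nQ hg) yQ
    have B : ∀ c : Cx (ι (nv zz)), c ^ 3 = 1 → (c : G) ∈ cmz (ι (nv zz)) (g * ι (nv yy) * g⁻¹) := fun c k => by
      have m : g⁻¹ * c * g⁻¹⁻¹ ∈ Cx (ι (nv zz)) := by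
        have := (conj_mem_Cx (g := g⁻¹)).2 (mem_Cx.2 (zc (conj_mem_of_mem_normalizer hg (mem_zpowers _)) c.2))
        rwa [show g⁻¹ * (g * ι (nv zz) * g⁻¹) * g⁻¹⁻¹ = ι (nv zz) by group] at this
      refine ⟨c.2, ?_⟩
      convert conj_mem_of_mem_normalizer hg (A ⟨_, m⟩ (Subtype.ext (by
        rw [coe_pow, conj_pow, ← coe_pow, k]; simp))).2 using 1
      group
    have C : (t : G) ∈ cmz (ι (nv zz)) (g * ι (nv yy) * g⁻¹) := md (Qc _ pQ)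
      (sq q (by rw [qs]; exact (by decide +kernel : ∀ s : SL, s * s = o 1 → ∀ u : SL, u ^ 3 = 1 → u ≠ 1 →
        (s * u * s⁻¹ * u⁻¹) ^ 2 = o 1) s ss u u3 u1))
      (pow_mem (mul_mem (B (q * e * q⁻¹) (by rw [conj_pow, e3]; group)) (inv_mem (B e e3))) 2)
    obtain ⟨a, ha, ea⟩ := (h.mem_im QL).1 pQ
    have D : ∀ {b}, b ∈ NG Γ → ι b ∈ cmz (ι (nv zz)) (g * ι (nv yy) * g⁻¹) →
        b * a * b⁻¹ * a⁻¹ = 1 ∨ b * a * b⁻¹ * a⁻¹ = nv zz ∨ b * a * b⁻¹ * a⁻¹ = (nv zz)⁻¹ := fun hb k => by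
      have k2 := k.2
      have m := mul_mem (mul_mem hb (QL ha)) (inv_mem hb)
      rw [← ea, h.conj hb (QL ha), ← h.inv (QL ha), ← h.mul m (inv_mem (QL ha)), ← h.im_zpowers (nv_mem _ _),
        h.mem_im_iff (zpowers_le.2 (nv_mem _ _)) (mul_mem m (inv_mem (QL ha)))] at k2
      exact three_cases (by decide +kernel) k2
    obtain ⟨i, -, j, -, k⟩ := model_y a.w ha.2 a.v ha.1 (by
      simp only [List.forall_mem_cons]
      exact ⟨D (nv_mem _ _) (ee ▸ B e e3), D mr (et ▸ C), by simp⟩)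
    rw [← ea, show a = _ from k, h.mul (pow_mem (nv_mem _ _) _) (pow_mem (nv_mem _ _) _), h.pow (nv_mem _ _),
      h.pow (nv_mem _ _)]
    exact mul_mem (pow_mem (subset_closure (by simp)) _) (pow_mem (subset_closure (by simp)) _)
  · obtain ⟨g1, g2⟩ := mem_inf.1 hg
    have QS : QG ι ≤ SG ι := gim_mono QV_le
    have eS : (e : G) ∈ SG ι := ee ▸ mem_gim_of (nv_mem _ _)
    rcases (by decide +kernel : ∀ a u : SL, u ^ 3 = 1 → a * u * a⁻¹ * u⁻¹ = 1 ∨ (a * u * a⁻¹ * u⁻¹) ^ 2 = o 1)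
      (π ⟨g, g1⟩).1 u u3 with k | k
    · have m := (hk _).1 ((cm ⟨g, g1⟩).trans (by rw [k]; rfl))
      refine h.NS_le (mem_normalizer_of_forall fun y hy => max3 (K := QG ι)
        (L := (SG ι).comap (MulAut.conj g).toMonoidHom) (fun y hy => QS (conj_mem_of_mem_normalizer
          (h.nQ (Set1P.Cx_le _ g1)) hy)) QS (by rw [h.card_im h.SV_le, h.card_im QL, card_SV, card_QV]) ?_ eS eQ hy)
      exact (mul_mem_cancel_right (inv_mem eS)).1 (QS m)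
    · have e4 : (e : G) ∈ Cx (ι (nv x4)) := ee ▸ cv x3 x4
      obtain ⟨a, ha, ea⟩ := (h.mem_im QL).1 (mod hk (sq _ k).symm)
      have m := pow_mem (mul_mem (mul_mem (mul_mem g2 e4) (inv_mem g2)) (inv_mem e4)) 2
      have : ι (a * nl r4) ∈ Cx (ι (nv x4)) := by
        rw [h.mul (QL ha) mr, ea, et, inv_mul_cancel_right]
        exact m
      exact absurd ((h.cent_iff (mul_mem (QL ha) mr) x4).1 this)
        ((by decide +kernel : ∀ w ∈ XX, act (w * r4) x4 ≠ x4) _ ha.2)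

theorem XQ.exists_O8 (h : XQ z Q) (hg : g * z * g⁻¹ ∈ Q) (hg' : g * z * g⁻¹ ∉ zpowers z)
    (π : Cx z →* SL × Multiplicative (ZMod 2)) (hk : ∀ c, π c = 1 ↔ (c : G) ∈ Q) (hs : ∀ s, ∃ c, π c = (s, 1))
    (hn : ∀ t : Cx z, π t = (U43.SL.o 1, 1) → neg Q z t ≠ Q) : ∃ Γ, ∃ ι : N4 → G, O8 Γ ι := by
  obtain ⟨q, -, ht, tt⟩ := lift0 h hk hs (s := o 2) (by decide +kernel)
  generalize q * q = t at ht tt
  have h1 : ¬ Q ≤ Cx (t : G) := fun k => absurd (ht.symm.trans ((hk t).2 (h.cQ fun y hy => mem_Cx.1 (k hy))))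
    (by decide +kernel)
  obtain ⟨Γ, ι, k, rfl, rfl, hr, et⟩ := h.exists_O4 (card6 h hk hs) hg hg' t.2 (congrArg Subtype.val tt)
    (fun c hc _ => (hk (⟨c, hc⟩ * t * ⟨c, hc⟩⁻¹ * t)).1 (by
      rw [map_mul, map_mul, map_mul, map_inv, ht]
      exact (by decide +kernel : ∀ a : SL, ∀ b : Multiplicative (ZMod 2),
        (a, b) * (o 1, 1) * (a, b)⁻¹ * (o 1, 1) = 1) _ _)) h1 (hn t ht)
  exact ⟨Γ, ι, of_O4 k hr hk hs ht tt et h1 (hn t ht)⟩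

end CfsgLib.Rec3C
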