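import Cfsg.Agent.Lib.Rec3C.O8Fin
import Cfsg.Agent.Lib.Rec3C.Me
import Cfsg.Agent.Lib.Rec3.RealI
import Cfsg.Agent.Lib.Transfer.Thompson

/-! TT: the case `Γ = WF4`, the main theorem (plans/REC3C.md) -/

set_option autoImplicit false
set_option maxRecDepth 100000
set_option maxHeartbeats 400000
set_option Elab.async false

namespace CfsgLib.Rec3C

open Subgroup Cfsg CfsgLib.Tech CfsgLib.PComp CfsgLib.W2 CfsgLib.Rec3
open CfsgLib.Rec3B (V81 EQ Q8 KC EE MM Ri TyE zi gi neg)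
open CfsgLib.U43 (SL)
open V4

variable {G : Type*} [Group G] [Finite G] {Γ : Subgroup GO} {ι : N4 → G}

namespace TtP

omit [Finite G] in
theorem Cx_le (z : G) : Cx z ≤ normalizer (zpowers z : Set G) := fun g hg =>
  mem_normalizer_iff_cj.2 (by rw [cj_zpowers, mem_Cx'.1 hg])

theorem rF : r4 ∈ WF4 := by decide +kernel

theorem tF : t12 ∈ WF4 := by decide +kernel

theorem PF : WP43 ≤ WF4 := fun g => (by decide +kernel : ∀ s : D72, bit 0x7fc01ff s.v = true →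
  bit 0xfffffffff s.v = true) (fr g)

theorem conjP {n b : GO} (hn : n ∈ WF4) (hb : b ∈ WP43) : n * b * n⁻¹ ∈ WP43 := by
  have := (by decide +kernel : ∀ s : D72, bit 0xfffffffff s.v = true → ∀ t : D72, bit 0x7fc01ff t.v = true →
    bit 0x7fc01ff (s * t * s⁻¹).v = true) (fr n) hn (fr b) hb
  rwa [← map_inv, ← map_mul, ← map_mul] at this

theorem cosP {b : GO} (hb : b ∈ WF4) : b ∈ WP43 ∨ b⁻¹ * t12 ∈ WP43 := by
  have := (by decide +kernel : ∀ s : D72, bit 0xfffffffff s.v = true → bit 0x7fc01ff s.v = true ∨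
    bit 0x7fc01ff (s⁻¹ * fr t12).v = true) (fr b) hb
  rwa [← map_inv, ← map_mul] at this

theorem genP {P : GO → Prop} (h1 : P 1)
    (hs : ∀ a, P a → ∀ g ∈ ([TG.o 32, TG.o 96, TG.o 33, TG.o 576] : List GO), P (a * g)) {g : GO} (hg : g ∈ WP43) : P g := by
  have k : CosetEnum.force (TG.sp ([TG.o 32, TG.o 96, TG.o 33, TG.o 576] : List GO) 11)
    (fun S => decide (∀ g : GO, g ∈ WP43 → bit S g.v = true)) = true := by decide +kernel
  rw [CosetEnum.force_eq, decide_eq_true_eq] at k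
  exact TG.sp_ind h1 hs (k g hg)

theorem refl_y : ∀ n ∈ WF4, act (n⁻¹ * t12 * n) yy = yy →
    ∃ s ∈ [1, σ0, σ0⁻¹], nl (n⁻¹ * t12 * n) = nl th * emb3 (s * Rec3.r3 * s⁻¹) * (nl th)⁻¹ := by
  decide +kernel

omit [Finite G] in
theorem cube_mem {K : Subgroup G} (hK : ∀ y, y * y ∈ K) {x : G} (h : x ^ 3 = 1) : x ∈ K := by
  have := hK (x * x)
  rwa [← mul_assoc, mul_assoc x, ← pow_three, h, one_mul] at this

/-- the elements of order three of `C(r4)` are conjugate into `J` -/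
theorem conj_r (h : O4 WF4 ι) (hq : RQ4 ι) {x : G} (hx : x ∈ Cx (ι (nl r4))) (h3 : x ^ 3 = 1) :
    ∃ c ∈ Cx (ι (nl r4)), c * x * c⁻¹ ∈ JG ι := by
  obtain ⟨c, hc, k⟩ := (h.sylow_r rF).exists_conj_mem hx (isPGroup_zpowers_of_pow (k := 1) h3)
  have l : S0 ≤ A3 WF4 := fun a _ => A3_vals.2.2.1 ▸ mem_B3 a
  obtain ⟨a, ha, e⟩ := (h.emb.mem_im l).1 k
  obtain ⟨d, hd, k⟩ := h.conj_J tF hq (emb3_S0 ha) ((by decide +kernel : ∀ s, act (e48 s) x4 = x4) _) (by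
    rw [← map_pow, (h.emb.eq_one_iff (pow_mem (l ha) 3)).1 (by rw [h.emb.pow (l ha), e, conj_pow, h3]; group), map_one])
  exact ⟨d * c, mul_mem (h.r4_cent tF hq rF hd) hc, by convert k using 1; rw [e]; group⟩

theorem mB (a : W3) : a ∈ A3 WF4 := A3_vals.2.2.1 ▸ mem_B3 a

/-- `C_L(z, t12)` is generated by squares -/
theorem le_of_sq (h : O4 WF4 ι) (hq : RQ4 ι) {κ : W3 → Lx (ι (nv x4))} (k : LD WF4 ι κ)
    {M : Subgroup (Lx (ι (nv x4)))} (hM : ∀ y, y * y ∈ M) {x : Lx (ι (nv x4))} (h1 : (x : G) ∈ Cx (ι (nv zz)))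
    (h2 : (x : G) ∈ Cx (ι (nl t12))) : x ∈ M := by
  obtain ⟨π, c⟩ := h.cz tF k hq
  obtain ⟨f, d⟩ := Rec3B.Ct.exists_FD k.toJS (fun a _ => mB a) c
  obtain ⟨u, hu, a, rfl⟩ := d.fc x (mem_Cx.2 (Subtype.ext (by
    rw [coe_mul, coe_mul, k.val _ (mB _), emb3_vals.2.2.2.1]; exact mem_Cx.1 h1))) (mem_Cx.2 (Subtype.ext (by
    rw [coe_mul, coe_mul, k.val _ (mB _), emb3_vals.2.2.2.2.2.2.2.2.1]; exact mem_Cx.1 h2)))
  obtain ⟨b, b', rfl⟩ := (by decide +kernel : ∀ a : SL, ∃ b b' : SL, a = b * b * (b' * b')) a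
  simp only [map_mul]
  exact mul_mem (zpowers_le.2 (cube_mem hM c.z3) hu) (mul_mem (hM _) (hM _))

end TtP

open TtP

namespace O8

variable (h : O8 WF4 ι)
include h

theorem twF : O4 WF4 (tw ι) := twG_vals.2.2.1 ▸ h.toO4.twist

theorem ce_all {v : V81} (hv : qf v = 1) : Cx (ι (nv v)) ≤ NJG ι := fun g hg => by
  obtain ⟨w, hw, e⟩ := om_trans (u := v) (v := x4) (fun e => absurd (e ▸ hv) (by decide +kernel)) (by decide +kernel)
    (hv.trans (by decide +kernel))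
  have hn := h.toO4.mem_norm (nl_mem (h.om hw))
  have := h.ce2 (x := ι (nl w) * g * (ι (nl w))⁻¹) (by
    rw [← e, ← show _ = ι (nv (act w v)) from h.toO4.conj_ev (nl_mem (h.om hw)) v]
    exact conj_mem_Cx.2 hg)
  simpa [mul_assoc] using mul_mem (mul_mem (inv_mem hn) this) hn

theorem he : Cx (ι (nv yy)) ⊓ Cx (ι (nv (x1 * x2))) ≤ NJG ι := fun g hg => h.ce_all (v := yy * (x1 * x2))
  (by decide +kernel) (by
    rw [map_mul, h.mul (nv_mem _ _) (nv_mem _ _)]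
    exact Cx_comm.1 (mul_mem (Cx_comm.1 hg.1) (Cx_comm.1 hg.2)))

theorem hb {κ : W3 → Cx (ι (nl r4))} {R : Subgroup (Cx (ι (nl r4)))} (d : KD WF4 ι κ R) : HB κ (selfC _) R := by
  have c : ∀ {g : Cx (ι (nl r4))} {a}, g ∈ Cx (κ a) ↔ (g : G) ∈ Cx (ι (emb3 a)) := by
    intro g a
    rw [mem_Cx, mem_Cx, Subtype.ext_iff, coe_mul, coe_mul, d.val _ (mB _)]
  refine ⟨A3_vals.2.2.1 ▸ d.toKC1, fun g hg => d.norm_of h.toO4 rF (h.ce_all (v := x3) (by decide +kernel)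
    (emb3_vals.2.2.1 ▸ c.1 hg)), fun g hg => ?_⟩
  have l : J00 ≤ A3 WF4 := fun a _ => mB a
  obtain ⟨_, hu', e⟩ := (closure_le ((img κ J00).map (Subgroup.subtype _))).2 (by
    rintro _ (rfl | rfl)
    · exact ⟨κ z0, mem_im_of (by decide +kernel), (d.val _ (mB _)).trans (congrArg ι emb3_vals.2.2.2.1)⟩
    · exact ⟨κ y1, mem_im_of (by decide +kernel), (d.val _ (mB _)).trans (congrArg ι emb3_vals.2.2.2.2.1)⟩)
    (h.ny g (Cx_le _ (emb3_vals.2.2.2.1 ▸ c.1 hg)))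
  obtain ⟨u, hu, rfl⟩ := (d.toEmb.mem_im l).1 hu'
  have e' : g * κ y1 * g⁻¹ = κ u := Subtype.ext (by
    rw [coe_mul, coe_mul, coe_inv, d.val _ (mB _), emb3_vals.2.2.2.2.1]; exact e.symm)
  rcases (by decide +kernel : ∀ u ∈ J00, (u ≠ y1 ∧ ∃ n < 3, u = z0 ^ n) ∨ ∃ b ∈ [1, σ0, σ0⁻¹, t0, σ0 * t0, σ0⁻¹ * t0],
    b * z0 * b⁻¹ = z0 ∧ b * y1 * b⁻¹ = u) u hu with ⟨k, n, -, rfl⟩ | ⟨b, -, b1, b2⟩
  · rw [← mem_Cx'.1 (show g ∈ Cx (κ (z0 ^ n)) by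
      rw [d.toEmb.pow (mB _)]; exact Cx_comm.1 (pow_mem (Cx_comm.1 hg) n)), mul_left_inj, mul_right_inj] at e'
    exact absurd (d.inj (mB _) (mB _) e').symm k
  have bz := mem_Cx'.2 (d.toEmb.conj_eq (mB _) (mB _) b1)
  obtain ⟨y, hy, a, -, k⟩ := d.czy ((κ b)⁻¹ * g) (mul_mem (inv_mem bz) hg) (mem_Cx'.2 (by
    calc _ = (κ b)⁻¹ * (g * κ y1 * g⁻¹) * κ b := by group
      _ = _ := by rw [e', ← d.toEmb.conj_eq (mB _) (mB _) b2]; group))
  exact ⟨_, conj_mem_of_mem_normalizer (d.nR (Cx_le _ bz)) hy, b * a, by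
    rw [d.mul (mB _) (mB _), ← mul_assoc, inv_mul_cancel_right, mul_assoc, ← k, mul_inv_cancel_left]⟩

theorem conj_pi {x : G} (hx : x ∈ Cx (ι (nl t12))) (h3 : x ^ 3 = 1) : ∃ c ∈ Cx (ι (nl t12)), c * x * c⁻¹ ∈ JG ι := by
  have := conj_r h.twF (RQ4_tw.2 h.rq) (x := x)
  rw [tw_nl, th_vals.2.2.2.2.2.1, h.toO4.tw_J.1] at this
  exact this hx h3

theorem move {g : G} {v : V81} (e : g * ι (nl t12) * g⁻¹ ∈ Cx (ι (nv v))) : ∃ c ∈ Cx (ι (nv v)), ∃ n ∈ WF4,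
    c * (g * ι (nl t12) * g⁻¹) * c⁻¹ = ι (nl (n⁻¹ * t12 * n)) := by
  obtain ⟨c, hc, k⟩ := h.conj_pi (x := g⁻¹ * ι (nv v) * g⁻¹⁻¹) (by
    have := (conj_mem_Cx (g := g⁻¹)).2 (Cx_comm.1 e)
    rwa [show g⁻¹ * (g * ι (nl t12) * g⁻¹) * g⁻¹⁻¹ = ι (nl t12) by group] at this) (by
    rw [conj_pow, ← h.pow (nv_mem _ _), ← map_pow, pow_succ, pow_two, Rec3B.W4.V_cube, map_one, h.one]; group)
  obtain ⟨u, eu⟩ := h.toO4.mem_J.1 k
  obtain ⟨n, hn, en⟩ := h.toO4.control (g := c * g⁻¹) (u := v) (v := u) (by rw [eu]; group)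
  have mn := nl_mem hn
  refine ⟨(ι (nl n))⁻¹ * c * g⁻¹, mem_Cx'.2 ?_, n, hn, ?_⟩
  · calc _ = (ι (nl n))⁻¹ * ι (nv u) * ι (nl n) := by rw [eu]; group
      _ = _ := by rw [← en, ← show _ = ι (nv (act n v)) from h.toO4.conj_ev mn v]; group
  · calc _ = (ι (nl n))⁻¹ * (c * ι (nl t12) * c⁻¹) * ι (nl n) := by group
      _ = _ := by
        rw [mem_Cx'.1 hc, map_mul, map_mul, map_inv, h.mul (mul_mem (inv_mem mn) (nl_mem tF)) mn,
          h.mul (inv_mem mn) (nl_mem tF), h.inv mn]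

/-- the subgroup of index two of `L(y)` -/
theorem exists_H : ∃ H : Subgroup G, (∀ x ∈ Cx (ι (nv yy)), x ∈ Cx (ι (nv zz)) → x ∈ Cx (ι (nl r4)) → x ^ 4 = 1 → x ∈ H) ∧
    Cx (ι (nv yy)) ≤ normalizer (H : Set G) ∧ ∀ n ∈ WF4, ι (nl (n⁻¹ * t12 * n)) ∉ H := by
  have t := h.twF
  have hq := RQ4_tw.2 h.rq
  obtain ⟨κ, k⟩ := t.exists_LD tF
  obtain ⟨π, c⟩ := t.cz tF k hq
  have j : JS B3 κ := A3_vals.2.2.1 ▸ k.toJS
  obtain ⟨ν, s⟩ := P6.exists_RS j (fun a _ => mem_B3 a) c (c.img_S0 j.toJS0)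
  have e4 : tw ι (nv x4) = ι (nv yy) := by rw [tw_nv, th_vals.2.1]
  obtain ⟨H, hn, hi, hr⟩ := s.exists_two ((t.he_iff tF k).2 (by
    rw [e4, tw_nv, th_vals.2.2.2.1, NJG, h.toO4.tw_J.1]; exact h.he))
  refine ⟨H.map (Subgroup.subtype _), fun x x1 x2 x3 x4 => mem_map_of_mem _ (le_of_sq t hq k
    (mul_self_mem_of_index_two hi) (x := ⟨x, mem_Lx (e4 ▸ x1) x4⟩) (by rwa [tw_nv, th_vals.1])
    (by rwa [tw_nl, th_vals.2.2.2.2.1])), fun g hg => mem_normalizer_of_forall ?_, fun n hn' => ?_⟩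
  · rintro _ ⟨x, hx, rfl⟩
    obtain ⟨n, l, hl, rfl⟩ := t.cent_split tF (e4 ▸ hg)
    refine ⟨_, hn.conj_mem x hx ⟨l, hl⟩, ?_⟩
    have := Lx_le _ (⟨l, hl⟩ * x * ⟨l, hl⟩⁻¹ : Lx _).2
    refine (mem_Cx'.1 (pow_mem (Cx_comm.1 this) n)).symm.trans ?_
    simp [mul_assoc]
  · rintro ⟨x, hx, e⟩
    have m := mul_mem (mul_mem (inv_mem hn') tF) hn'
    obtain ⟨s, -, es⟩ := refl_y n hn' ((h.toO4.cent_iff (nl_mem m) yy).1 (e ▸ e4 ▸ Lx_le _ x.2))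
    have : x = κ (s * Rec3.r3 * s⁻¹) := Subtype.ext (e.trans (by rw [es, k.val _ (mB _)]; rfl))
    rw [this, ← j.toEmb.conj (mem_B3 _) (mem_B3 _)] at hx
    exact hr (by simpa [mul_assoc] using hn.conj_mem _ hx (κ s)⁻¹)

end O8

theorem O8.exists_two (h : O8 WF4 ι) : ∃ K : Subgroup G, K.Normal ∧ K.index = 2 ∧ ι (nl t12) ∉ K := by
  obtain ⟨κ, R, d⟩ := h.toO4.exists_KD rF h.rq h.he
  obtain ⟨T, T0, hT, l0, i0, cT, inv⟩ := (h.hb d).syl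
  have rr : ι (nl r4) * ι (nl r4) = 1 := congrArg Subtype.val d.rr
  have hS : IsSylowIn 2 (T.map (Subgroup.subtype _)) ⊤ := by
    refine Rec3.sylow_of (hT.pgroup.map _) le_top fun x _ hx ⟨n, hn⟩ => ?_
    have rT : selfC (ι (nl r4)) ∈ T := hT.le_of_normalizes (isPGroup_zpowers_of_pow (k := 1) (by rw [← d.rr, pow_one, sq]))
      le_top (zpowers_le.2 (mem_normalizer_of_forall fun y hy => by rwa [← d.rc, mul_inv_cancel_right])) (mem_zpowers _)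
    obtain ⟨y, hy, e⟩ := conj_mem_of_mem_normalizer hx (mem_map_of_mem _ rT)
    have e' : (y : G) = x * ι (nl r4) * x⁻¹ := e
    have xr : x ∈ Cx (ι (nl r4)) := by
      rcases cT y hy fun u hu => Subtype.ext (by
        obtain ⟨u', -, k⟩ := conj_mem_of_mem_normalizer' hx (mem_map_of_mem _ hu)
        have := (conj_mem_Cx (g := x)).2 u'.2
        rw [show (u' : G) = _ from k, show ∀ y : G, x * (x⁻¹ * y * x) * x⁻¹ = y from fun y => by group, ← e'] at this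
        exact mem_Cx.1 this) with rfl | rfl
      · exact absurd (Subtype.ext (conj_eq_one_iff.1 e'.symm)) d.r1
      · exact mem_Cx'.2 e'.symm
    refine mem_map_of_mem (Cx (ι (nl r4))).subtype (x := ⟨x, xr⟩) (hT.le_of_normalizes (isPGroup_zpowers_of_pow (k := n) (Subtype.ext hn)) le_top
      (zpowers_le.2 (mem_normalizer_of_forall fun y hy => ?_)) (mem_zpowers _))
    exact (mem_map_iff_mem (subtype_injective _)).1 (conj_mem_of_mem_normalizer hx (mem_map_of_mem _ hy))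
  have o2 : orderOf (ι (nl t12)) = 2 := h.ord_two (nl_mem tF) (by decide +kernel) (by decide +kernel)
  refine (Transfer.thompson_transfer (by simpa using hS.not_dvd)
    ((relIndex_map_map_of_injective _ _ (subtype_injective _)).trans i0) o2).resolve_right ?_
  rintro ⟨g, u, hu, e⟩
  obtain ⟨m, k⟩ := inv u hu (Subtype.ext (by
    rw [coe_mul, show (u : G) = _ from e, conj_mul, ← sq, ← o2, pow_orderOf_eq_one]; simp))
  have e' : ((m * u * m⁻¹ : Cx _) : G) = m * g * ι (nl t12) * ((m : G) * g)⁻¹ := by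
    rw [coe_mul, coe_mul, coe_inv, show (u : G) = _ from e]; group
  generalize m * u * m⁻¹ = w at k e'
  generalize (m : G) * g = g' at e'
  rcases k with ⟨a, ha, ha', a3, k⟩ | ⟨a, ha, k⟩ | k
  · have k' : ι (emb3 a) ∈ Cx (w : G) := d.val _ (mB _) ▸ mem_Cx.2 (congrArg Subtype.val (mem_Cx.1 k)).symm
    obtain ⟨c, -, hc⟩ := h.conj_pi (x := g'⁻¹ * ι (emb3 a) * g'⁻¹⁻¹) (by
      have := (conj_mem_Cx (g := g'⁻¹)).2 k'
      rwa [e', show g'⁻¹ * (g' * ι (nl t12) * g'⁻¹) * g'⁻¹⁻¹ = ι (nl t12) by group] at this) (by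
      rw [conj_pow, ← h.pow (mB a), ← map_pow, a3, map_one, h.one]; group)
    exact h.notJ (emb3_S0 ha) ((by decide +kernel : ∀ a ∈ S0, a ∉ J0 → act (emb3 a).w yy ≠ yy) a ha ha') (c * g'⁻¹)
      (by convert hc using 1; group)
  · obtain ⟨b, b1, b2, eb⟩ : ∃ b : N4, b.w ∈ WP43 ∧ act b.w x3 = x3 ∧ ι b = w := by
      obtain ⟨p1, p2⟩ := (by decide +kernel : ∀ a ∈ [Rec3.r1, w0], ((emb3 a).w ∈ WP43 ∧ act (emb3 a).w x3 = x3) ∧
        (emb3 a * nl r4).w ∈ WP43 ∧ act (emb3 a * nl r4).w x3 = x3) a ha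
      rcases k with rfl | rfl
      · exact ⟨_, p1.1, p1.2, (d.val _ (mB _)).symm⟩
      · exact ⟨_, p2.1, p2.2, by rw [h.mul (mB a) (nl_mem rF), ← d.val _ (mB _)]; rfl⟩
    obtain ⟨c, hc, n, hn, k⟩ := h.move (e' ▸ eb ▸ (h.toO4.cent_iff (PF b1) x3).2 b2)
    obtain ⟨s, hs, rfl⟩ := h.toO4.exists_eq (h.ce_all (by decide +kernel) hc)
    rw [← e', ← eb, h.conj hs (PF b1), h.eq_iff (mul_mem (mul_mem hs (PF b1)) (inv_mem hs))
      (nl_mem (mul_mem (mul_mem (inv_mem hn) tF) hn))] at k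
    have := conjP hn ((show s.w * b.w * s.w⁻¹ = n⁻¹ * t12 * n from congrArg N4.w k) ▸ conjP (n := s.w) hs b1)
    rw [show n * (n⁻¹ * t12 * n) * n⁻¹ = t12 by group] at this
    exact absurd this (by decide +kernel)
  · obtain ⟨H, h1, h2, h3⟩ := h.exists_H
    have c : ∀ {g : Cx (ι (nl r4))} {a}, g ∈ Cx (κ a) → (g : G) ∈ Cx (ι (emb3 a)) := fun hg => by
      rw [← d.val _ (mB _)]; exact mem_Cx.2 (congrArg Subtype.val (mem_Cx.1 hg))
    have lR : R ≤ (H ⊓ Cx (ι (nv yy))).comap (Subgroup.subtype _) := fun x hx => by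
      obtain ⟨x1, x2, x3⟩ := d.mem_R.1 hx
      have y1 := emb3_vals.2.2.2.2.1 ▸ c x2
      exact ⟨h1 _ y1 (emb3_vals.2.2.2.1 ▸ c x1) x.2 (congrArg Subtype.val x3), y1⟩
    have r3y : (κ Rec3.r3 : G) ∈ Cx (ι (nv yy)) := emb3_vals.2.2.2.2.1 ▸ c (mem_Cx.2 ((d.toEmb.comm_iff (mB _) (mB _)).2
      (by decide +kernel)))
    have wH : w ∈ (H ⊓ Cx (ι (nv yy))).comap (Subgroup.subtype _) := by
      refine sup_le lR ?_ k
      rw [← d.toEmb.mul_eq (mB _) (mB _) (by decide +kernel : Rec3.r3 * Rec3.i0 = w0), Tech.cj_mul,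
        mem_normalizer_iff_cj.1 (d.nR (mem_normalizer_iff_cj.2 (by
          rw [cj_zpowers, d.toEmb.conj_eq (mB _) (mB _) (by decide +kernel : Rec3.i0 * z0 * Rec3.i0⁻¹ = z0⁻¹),
            d.toEmb.inv (mB _), zpowers_inv])))]
      exact cj_le_iff.2 fun x hx => mem_inf.2 ⟨conj_mem_of_mem_normalizer (h2 r3y) (lR hx).1,
        mul_mem (mul_mem r3y (mem_inf.1 (lR hx)).2) (inv_mem r3y)⟩
    obtain ⟨w1, w2⟩ : (w : G) ∈ H ∧ (w : G) ∈ Cx (ι (nv yy)) := wH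
    obtain ⟨c, hc, n, hn, k⟩ := h.move (e' ▸ w2)
    exact h3 n hn (k ▸ e' ▸ conj_mem_of_mem_normalizer (h2 hc) w1)

theorem O8.restrict (h : O8 WF4 ι) {K : Subgroup G} (hK : K.index = 2) (ht : ι (nl t12) ∉ K) :
    ∃ κ : N4 → K, O8 WP43 κ ∧ ∀ a ∈ NG WP43, (κ a : G) = ι a := by
  have sq := mul_self_mem_of_index_two hK
  obtain ⟨q, hq, eq⟩ := h.rq
  have cu : ∀ {a}, a ∈ NG WF4 → a ^ 3 = 1 → ι a ∈ K := fun ha e => cube_mem sq (by rw [← h.pow ha, e, h.one])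
  have P : ∀ w ∈ WP43, ι (nl w) ∈ K := fun w hw => (genP (P := fun w => w ∈ WF4 ∧ ι (nl w) ∈ K)
    ⟨one_mem _, by rw [map_one, h.one]; exact one_mem _⟩ (fun a ha g hg => by
      obtain ⟨g1, g2⟩ := (by decide +kernel : ∀ g ∈ ([TG.o 32, TG.o 96, TG.o 33, TG.o 576] : List GO),
        g ∈ WF4 ∧ (nl g ^ 3 = 1 ∨ g = r4)) g hg
      refine ⟨mul_mem ha.1 g1, ?_⟩
      rw [map_mul, h.mul (nl_mem ha.1) (nl_mem g1)]
      exact mul_mem ha.2 (g2.elim (cu (nl_mem g1)) fun e => e ▸ eq ▸ sq q)) hw).2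
  have hw : ∀ a ∈ NG WF4, ι a ∈ K ↔ ι (nl a.w) ∈ K := fun a ha => by
    conv_lhs => rw [← nv_nl a, h.mul (nv_mem _ _) (nl_mem (g := a.w) ha)]
    exact mul_mem_cancel_left (cu (nv_mem _ _) (by rw [← map_pow, pow_succ, pow_two, Rec3B.W4.V_cube, map_one]))
  have mK : ∀ a ∈ NG WF4, ι a ∈ K ↔ a.w ∈ WP43 := fun a ha => (hw a ha).trans ⟨fun k => (cosP (b := a.w) ha).resolve_right fun e => ht (by
      have := mul_mem k (P _ e)
      rwa [← h.mul (nl_mem (g := a.w) ha) (nl_mem (PF e)), ← map_mul, mul_inv_cancel_left] at this), P _⟩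
  obtain ⟨κ, k, val⟩ := h.toO4.restrict (Δ := WP43) (fun g => (by decide +kernel : ∀ s : D72, bit 0x1ff s.v = true →
    bit 0x7fc01ff s.v = true) (fr g)) PF mK
  have vv : ∀ v, (κ (nv v) : G) = ι (nv v) := fun v => val _ (nv_mem _ v)
  have c : ∀ {g : K} {v}, g ∈ Cx (κ (nv v)) ↔ (g : G) ∈ Cx (ι (nv v)) := by
    intro g v
    rw [mem_Cx, mem_Cx, Subtype.ext_iff, coe_mul, coe_mul, vv]
  have qK : q ∈ K := by
    obtain ⟨κ', k'⟩ := h.twF.exists_LD tF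
    have m : q ∈ Lx (tw ι (nv x4)) := mem_Lx (by rw [tw_nv, th_vals.2.1]; exact hq.2) (by
      rw [show q ^ 4 = q * q * (q * q) by simp [pow_succ, mul_assoc], eq, ← h.mul (nl_mem rF) (nl_mem rF),
        show nl r4 * nl r4 = 1 by decide +kernel, h.one])
    exact le_of_sq h.twF (RQ4_tw.2 h.rq) k' (M := K.subgroupOf _) (fun y => sq y) (x := ⟨q, m⟩)
      (by rw [tw_nv, th_vals.1]; exact hq.1)
      (by rw [tw_nl, th_vals.2.2.2.2.1, ← eq]; exact mem_Cx.2 (mul_assoc _ _ _).symm)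
  refine ⟨κ, ⟨k, Or.inl rfl, ⟨⟨q, qK⟩, ⟨c.2 hq.1, c.2 hq.2⟩, Subtype.ext (eq.trans (val _ (nl_mem r4_P)).symm)⟩,
    fun g hg => ?_, fun g hg => ?_⟩, val⟩
  · have := h.ny g (mem_normalizer_of_forall fun x hx => by
      rw [← vv, ← K.coe_subtype, ← MonoidHom.map_zpowers] at hx ⊢
      obtain ⟨x, hx, rfl⟩ := hx
      exact mem_map_of_mem _ (conj_mem_of_mem_normalizer hg hx))
    rw [← mem_map_iff_mem (subtype_injective K), MonoidHom.map_closure, Set.image_pair]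
    simpa only [map_mul, map_inv, coe_subtype, vv] using this
  · obtain ⟨a, ha, e⟩ := h.toO4.exists_eq (h.cy ⟨c.1 hg.1, c.1 hg.2⟩)
    have m := (mK a ha).1 (e ▸ g.2)
    rw [show g = κ a from Subtype.ext (e.symm.trans (val a m).symm)]
    exact k.mem_norm m

theorem O8.main (h : O8 Γ ι) : ∃ N : Subgroup G, N.Normal ∧
    Nonempty (N ≃* Cfsg.Omega (ZMod 2) (Cfsg.quadFormPlus 4 (ZMod 2))) ∧
      centralizer (N : Set G) = ⊥ ∧ (N.index = 3 ∨ N.index = 6) := by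
  have l : ∀ g ∈ Q32, g ∈ WP43 ∧ g ∈ WP4 := fun g => (by decide +kernel : ∀ s : D72, bit 0x1 s.v = true →
    bit 0x7fc01ff s.v = true ∧ bit 0x1240049 s.v = true) (fr g)
  rcases h.hΓ with rfl | rfl
  · obtain ⟨N, k⟩ := h.exists_G0
    exact ⟨N, k.nrm, h.omega k, O8.cent_G0 h.toO4 fun a ha => (k.mem a (l _ ha).1).2 (l _ ha).2, Or.inl k.idx⟩
  obtain ⟨K, hn, hK, ht⟩ := h.exists_two
  obtain ⟨κ, h', val⟩ := h.restrict hK ht
  obtain ⟨N, k⟩ := h'.exists_G0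
  obtain ⟨e⟩ := h'.omega k
  refine ⟨N.map K.subtype, ⟨?_⟩, ⟨(N.equivMapOfInjective _ K.subtype_injective).symm.trans e⟩,
    O8.cent_G0 h.toO4 fun a ha => ⟨κ a, (k.mem a (l _ ha).1).2 (l _ ha).2, val a (l _ ha).1⟩,
    Or.inr (by rw [index_map_subtype, k.idx, hK])⟩
  rintro _ ⟨x, hx, rfl⟩ g
  let φ : MulAut K := MulAut.conjNormal g
  refine ⟨φ x, ?_, rfl⟩
  rw [h'.G0_eq k] at hx
  exact (closure_le (N.comap φ.toMonoidHom)).2 (fun y hy => k.m3 (by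
    rw [orderOf_injective φ.toMonoidHom φ.injective y]; exact hy)) hx

end CfsgLib.Rec3C
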